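import Cfsg.Agent.Lib.ProperCore.Basic
import Cfsg.Agent.Lib.Bender.GoodAll
import Cfsg.Agent.Lib.Bender.ConsSimple
import Cfsg.Agent.Lib.Walter.Ab.Main
import Cfsg.Agent.Lib.Walter.Main
import Cfsg.Agent.Lib.ONanTwo.Perm.PSLDegree
import Cfsg.Agent.S1644
import Cfsg.Agent.S0253
import Cfsg.Prelude.Def_Spor_J1

/-!
An abelian Sylow subgroup with a bad involution: `L₂(q)` or `J₁`. In the Ree shape `C(t) = 2 × L₂(q)` the subgroup
`M` would give `L₂(q)` a strongly embedded subgroup on at most five points.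

Blueprint: `blueprint/S1728.md`, 2.
-/

set_option autoImplicit false
set_option linter.unusedSectionVars false
set_option linter.style.haveILetI false

universe u

namespace CfsgLib.ProperCore

open Cfsg Subgroup MulAction
open CfsgLib.Bender.TwoClosed (IsInv)
open CfsgLib.Bender.Assembly (orderOf_two isInv_of_orderOf fix_iff)

variable {G : Type u} [Group G] [Finite G] [IsSimpleGroup G] {S : Sylow 2 G} {M : Subgroup G} (C : Core S M)
include C

/-- In the centralizer `2 × L₂(q)` of a bad involution `q` is five. -/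
theorem small_of_shape {t : G} (hE : Walter.E8 (S : Subgroup G)) (htS : t ∈ (S : Subgroup G)) (hbad : ¬ Good M t)
    (c : WalterAb.Co t) : Fintype.card c.F < 27 := by
  classical
  by_contra hlarge
  push Not at hlarge
  haveI : Fact (Nat.Prime 2) := ⟨Nat.prime_two⟩
  haveI := c.psl_simple
  have ht : IsInv t := isInv_of_orderOf c.ord
  have htM : t ∈ M := C.le htS
  let H₀ : Subgroup (Matrix.ProjectiveSpecialLinearGroup (Fin 2) c.F) := M.comap c.ι
  have htop : H₀ ≠ ⊤ := fun e => hbad fun g hg => by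
    obtain ⟨x, hx | hx⟩ := c.decomp' (Subgroup.mem_centralizer_singleton_iff.mp hg)
    · exact hx ▸ (e.ge (mem_top x) : c.ι x ∈ M)
    · exact hx ▸ mul_mem htM (e.ge (mem_top x) : c.ι x ∈ M)
  obtain ⟨v, hvS, hv⟩ := SetLike.not_le_iff_exists.mp (show ¬ (S : Subgroup G) ≤ zpowers t from fun h => by
    have := Subgroup.card_le_of_le h
    rw [Nat.card_zpowers, c.ord, hE.1] at this
    omega)
  have hvC := WalterAb.Co.T_le hE htS hvS
  set u := c.π ⟨v, hvC⟩ with hu
  have huM : c.ι u ∈ M := by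
    rcases c.decomp ⟨v, hvC⟩ with e | e
    · exact e ▸ C.le hvS
    · rw [show c.ι u = t * v by rw [show v = t * c.ι u from e, ← mul_assoc, c.tt, one_mul]]
      exact mul_mem htM (C.le hvS)
  have hu1 : u ≠ 1 := fun e => hv (by
    rcases c.decomp ⟨v, hvC⟩ with e' | e' <;> rw [← hu, e, map_one] at e'
    · exact (show v = 1 from e') ▸ one_mem _
    · rw [show v = t by simpa using e']
      exact mem_zpowers t)
  have hu2 : u * u = 1 := by
    rw [hu, ← map_mul, show (⟨v, hvC⟩ : centralizer ({t} : Set G)) * ⟨v, hvC⟩ = 1 from Subtype.ext (hE.2 v hvS),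
      map_one]
  have hH : IsStronglyEmbedded H₀ := by
    refine ⟨htop, even_iff_two_dvd.mpr ?_, fun g hg => ?_⟩
    · exact (orderOf_two (⟨hu1, hu2⟩ : IsInv u)).symm.dvd.trans (Subgroup.orderOf_dvd_natCard H₀ huM)
    · by_contra hodd
      obtain ⟨⟨w, hwH, w₀, hw₀, e⟩, hw⟩ :=
        exists_prime_orderOf_dvd_card' 2 (even_iff_two_dvd.mp (Nat.not_odd_iff_even.mp hodd))
      rw [← Subgroup.orderOf_coe] at hw
      change orderOf w = 2 at hw
      have hw0 : orderOf w₀ = 2 := ((MulAut.conj g).orderOf_eq w₀).symm.trans ((congrArg orderOf e).trans hw)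
      have hwt : c.ι w₀ ≠ t := fun e' => by
        have h1 : c.π ⟨c.ι w₀, c.ι_mem w₀⟩ = c.π c.tC := congrArg c.π (Subtype.ext e')
        rw [c.π_ι, c.π_t] at h1
        rw [h1, orderOf_one] at hw0
        omega
      have hwi : IsInv (c.ι w₀) := isInv_of_orderOf (by rw [orderOf_injective c.ι c.ι_inj, hw0])
      refine hg (C.mem_of_pair ht hwi (Ne.symm hwt) (c.ι_comm w₀).symm htM hw₀ ?_ ?_)
      · rwa [c.ι_comm, mul_inv_cancel_right]
      · rw [← map_inv, ← map_mul, ← map_mul]
        rw [show g * w₀ * g⁻¹ = w from e]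
        exact hwH
  have h4 := Bender.hasFour_of_simple hH
  haveI := Bender.faithful (Bender.normalCore_eq_bot hH)
  obtain ⟨τ, Q, hS, hQ⟩ := Bender.Assembly.goodAll _ _ (Bender.Assembly.oneFix hH h4) ((1 : Matrix.ProjectiveSpecialLinearGroup (Fin 2) c.F) : _ ⧸ H₀)
  -- the regular group has order at most four
  have hQ4 : Nat.card Q ≤ 4 := by
    obtain ⟨P, hP⟩ := hQ.exists_le_sylow
    obtain ⟨g, hg⟩ := MulAction.exists_smul_eq (Matrix.ProjectiveSpecialLinearGroup (Fin 2) c.F) P (c.PT hE htS)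
    have h1 : (c.PT hE htS : Subgroup _).map c.ι ⊔ zpowers t ≤ (S : Subgroup G) :=
      sup_le (by rintro _ ⟨x, hx, rfl⟩; exact (c.mem_PT hE htS x).mp hx) (zpowers_le.mpr htS)
    have h2 : (c.PT hE htS : Subgroup _).map c.ι < (S : Subgroup G) := by
      refine lt_of_le_of_ne (le_sup_left.trans h1) fun e => ?_
      obtain ⟨x, -, hx⟩ := (e.ge htS : t ∈ (c.PT hE htS : Subgroup _).map c.ι)
      have h5 : c.π ⟨c.ι x, c.ι_mem x⟩ = c.π c.tC := congrArg c.π (Subtype.ext hx)
      rw [c.π_ι, c.π_t] at h5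
      exact c.t_ne (by rw [← hx, h5, map_one])
    have h6 := Subgroup.card_dvd_of_le h2.le
    have h7 : Nat.card ((c.PT hE htS : Subgroup _).map c.ι) ≠ 8 := fun e8 =>
      h2.ne (Subgroup.eq_of_le_of_card_ge h2.le (by rw [e8, hE.1]))
    rw [Subgroup.card_map_of_injective c.ι_inj] at h7
    rw [Subgroup.card_map_of_injective c.ι_inj, hE.1] at h6
    have h8 : Nat.card Q ≤ Nat.card (c.PT hE htS : Subgroup (Matrix.ProjectiveSpecialLinearGroup (Fin 2) c.F)) := by
      rw [← hg]
      exact (Subgroup.card_le_of_le hP).trans (Nat.card_congr (P.equivSMul g).toEquiv).le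
    have h9 := Nat.le_of_dvd (by norm_num) h6
    have h10 : ¬ (4 < Nat.card (c.PT hE htS : Subgroup (Matrix.ProjectiveSpecialLinearGroup (Fin 2) c.F))) := by
      intro h
      interval_cases hh : Nat.card (c.PT hE htS : Subgroup (Matrix.ProjectiveSpecialLinearGroup (Fin 2) c.F)) <;>
        omega
    omega
  -- so there are at most five points
  have h5 : Nat.card (_ ⧸ H₀) ≤ 5 := by
    set a : _ ⧸ H₀ := ((1 : Matrix.ProjectiveSpecialLinearGroup (Fin 2) c.F) : _ ⧸ H₀) with ha
    have hcov : ∀ b : _ ⧸ H₀, b = a ∨ ∃ q : Q, (q : Matrix.ProjectiveSpecialLinearGroup (Fin 2) c.F) • τ • a = b := by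
      intro b
      by_cases hb : b = a
      · exact Or.inl hb
      refine Or.inr ?_
      haveI := hS.two_transitive
      obtain ⟨g, hga, hgb⟩ := MulAction.is_two_pretransitive_iff.mp hS.two_transitive
        (show a ≠ τ • a from fun e => hS.not_mem e.symm) (Ne.symm hb)
      have h1 : g ∈ Q ⊔ (stabilizer _ a ⊓ stabilizer _ (τ • a)) := hS.sup_eq.symm ▸ hga
      have h2 : ∀ x ∈ Q ⊔ (stabilizer _ a ⊓ stabilizer _ (τ • a)), ∃ q ∈ Q, x • τ • a = q • τ • a := by
        intro x hx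
        rw [← SetLike.mem_coe, Subgroup.coe_mul_of_right_le_normalizer_left] at hx
        · obtain ⟨q, hq, d, hd, rfl⟩ := hx
          exact ⟨q, hq, by rw [mul_smul, (hd.2 : d • τ • a = τ • a)]⟩
        · exact fun d hd => Comp.mem_normalizer_of_maps fun q hq => hS.conj_mem d hd.1 q hq
      obtain ⟨q, hq, e⟩ := h2 g h1
      exact ⟨⟨q, hq⟩, e.symm.trans hgb⟩
    have h11 : Function.Surjective (fun o : Option Q => o.elim a fun q =>
        (q : Matrix.ProjectiveSpecialLinearGroup (Fin 2) c.F) • τ • a) := fun b => by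
      rcases hcov b with rfl | ⟨q, hq⟩
      exacts [⟨none, rfl⟩, ⟨some q, hq⟩]
    have h12 := Nat.card_le_card_of_surjective _ h11
    rw [Finite.card_option] at h12
    omega
  have h120 : Nat.card (Matrix.ProjectiveSpecialLinearGroup (Fin 2) c.F) ≤ 120 := by
    have h1 := Nat.card_le_card_of_injective _ (MulAction.toPerm_injective
      (α := Matrix.ProjectiveSpecialLinearGroup (Fin 2) c.F) (β := _ ⧸ H₀))
    rw [Nat.card_perm] at h1
    exact h1.trans (le_trans (Nat.factorial_le h5) (by decide))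
  have hcard := ONanTwo.two_mul_card_psl (F := c.F) (Nat.odd_iff.mpr (by have := c.hq; omega))
  have h729 : 27 * 27 ≤ Fintype.card c.F * Fintype.card c.F := Nat.mul_le_mul hlarge hlarge
  have : 27 * (27 ^ 2 - 1) ≤ Fintype.card c.F * (Fintype.card c.F ^ 2 - 1) := by
    rw [pow_two, pow_two]
    exact Nat.mul_le_mul hlarge (by omega)
  omega

/-- An abelian Sylow subgroup with bad involutions gives `L₂(q)` or `J₁`. -/
theorem abelian_cases (hG : ¬ IsMulCommutative G) (hS : IsMulCommutative (S : Subgroup G))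
    (hall : ∀ t ∈ (S : Subgroup G), IsInv t → ¬ Good M t) :
    (∃ (F : Type) (_ : Field F) (_ : Fintype F), 3 ≤ Fintype.card F ∧
        Nonempty (G ≃* Matrix.ProjectiveSpecialLinearGroup (Fin 2) F)) ∨ Cfsg.Spor.IsoJ1 G := by
  haveI : Fact (Nat.Prime 2) := ⟨Nat.prime_two⟩
  have hab : ∀ P : Sylow 2 G, IsMulCommutative (P : Subgroup G) := fun P => by
    obtain ⟨g, rfl⟩ := MulAction.exists_smul_eq G S P
    haveI := hS
    exact ⟨⟨fun a b => (Sylow.equiv (S) (g • S)).symm.injective (by rw [map_mul, map_mul]; exact hS.1.comm _ _)⟩⟩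
  rcases WalterAb.listed_of_P (fun X _ _ => Walter.p_all X) G inferInstance hG hab with
    ⟨F, iF, iFt, hc, e⟩ | hJ
  · refine Or.inl ⟨F, iF, iFt, ?_, e⟩
    rcases hc with ⟨-, h⟩ | ⟨n, hn, h⟩
    · omega
    · have := Nat.pow_le_pow_right (show 0 < 2 by norm_num) hn
      omega
  obtain ⟨x, hxS, -, -, hx, -, -, -⟩ := C.pair
  obtain ⟨F, iF, iFt, hc, ⟨e⟩⟩ := hJ.2 x (orderOf_two hx)
  rcases hc with h5 | ⟨m, hm, hq⟩
  · obtain ⟨e5⟩ := Cfsg.Agent.S0253.result (F := F) h5
    exact Or.inr (Cfsg.Agent.S1644.result S hS (hJ.1 S).1 x (orderOf_two hx)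
      (e.trans (MulEquiv.prodCongr (MulEquiv.refl _) e5)))
  · exfalso
    have h27 : 27 ≤ Fintype.card F := hq ▸ (show 3 ^ 3 ≤ 3 ^ (2 * m + 1) from
      Nat.pow_le_pow_right (by norm_num) (by omega))
    have hcm := WalterAb.card_mod (F := F) (Or.inr ⟨m, hm, hq⟩)
    have := small_of_shape C (hJ.1 S) hxS (hall x hxS hx) ⟨F, iF, iFt, hcm.1, hcm.2, orderOf_two hx, e⟩
    change Fintype.card F < 27 at this
    omega

end CfsgLib.ProperCore
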