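import Cfsg.Agent.Lib.ProperCore.Lift
import Mathlib.GroupTheory.GroupAction.Jordan
import Mathlib.GroupTheory.SpecificGroups.Alternating

/-!
The alternating group of degree seven has no proper core.

Blueprint: `blueprint/S1728.md`, 3.
-/

set_option autoImplicit false
set_option maxRecDepth 10000

universe u

namespace CfsgLib.ProperCore

open Cfsg Subgroup MulAction Equiv
open CfsgLib.Bender.TwoClosed (IsInv)

namespace AltSeven

def x₀ : alternatingGroup (Fin 7) := ⟨swap 0 1 * swap 2 3, Equiv.Perm.mem_alternatingGroup.mpr (by decide)⟩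
def y₀ : alternatingGroup (Fin 7) := ⟨swap 0 2 * swap 1 3, Equiv.Perm.mem_alternatingGroup.mpr (by decide)⟩
def a₀ : alternatingGroup (Fin 7) := ⟨swap 0 2 * swap 0 1, Equiv.Perm.mem_alternatingGroup.mpr (by decide)⟩
def b₀ : alternatingGroup (Fin 7) := ⟨swap 4 6 * swap 4 5, Equiv.Perm.mem_alternatingGroup.mpr (by decide)⟩
def w₀ : alternatingGroup (Fin 7) := ⟨swap 0 1 * swap 4 5, Equiv.Perm.mem_alternatingGroup.mpr (by decide)⟩
def g₀ : alternatingGroup (Fin 7) := ⟨swap 0 4 * swap 0 2 * (swap 1 5 * swap 1 3), Equiv.Perm.mem_alternatingGroup.mpr (by decide)⟩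

theorem isInv_of {G : Type u} [Group G] {π : alternatingGroup (Fin 7) →* G} (hπ : Function.Injective π)
    {a : alternatingGroup (Fin 7)} (h1 : a ≠ 1) (h2 : a * a = 1) : IsInv (π a) :=
  ⟨fun e => h1 (hπ (e.trans (map_one π).symm)), by rw [← map_mul, h2, map_one]⟩

theorem false {G : Type u} [Group G] [Finite G] {S : Sylow 2 G} {M : Subgroup G} (C : Core S M)
    (e : G ≃* alternatingGroup (Fin 7)) : False := by
  let π : alternatingGroup (Fin 7) →* G := e.symm.toMonoidHom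
  have hπi : Function.Injective π := e.symm.injective
  have cm : ∀ {a b : alternatingGroup (Fin 7)}, a * b = b * a → Commute (π a) (π b) := fun {a b} h => by
    show π a * π b = π b * π a
    rw [← map_mul, ← map_mul, h]
  have hne : π x₀ ≠ π y₀ := fun h => (show x₀ ≠ y₀ by decide) (hπi h)
  have hx := isInv_of hπi (show x₀ ≠ 1 by decide) (by decide)
  have hy := isInv_of hπi (show y₀ ≠ 1 by decide) (by decide)
  obtain ⟨N, hN⟩ := C.exists_ctrl (π := π) e.symm.surjective hx hy hne (cm (by decide))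
  have h1 := hN.move x₀ hN.x_mem y₀ hN.y_mem hx hy hne (cm (by decide))
  have hxy := mul_mem hN.x_mem hN.y_mem
  have hx' := hN.x_mem
  have ha : a₀ ∈ N := h1 a₀
    (by rw [show a₀ * x₀ * a₀⁻¹ = x₀ * y₀ by decide]; exact hxy)
    (by rw [show a₀ * y₀ * a₀⁻¹ = x₀ by decide]; exact hx')
  have hb : b₀ ∈ N := h1 b₀
    (by rw [show b₀ * x₀ * b₀⁻¹ = x₀ by decide]; exact hx')
    (by rw [show b₀ * y₀ * b₀⁻¹ = y₀ by decide]; exact hN.y_mem)
  have hw : w₀ ∈ N := h1 w₀
    (by rw [show w₀ * x₀ * w₀⁻¹ = x₀ by decide]; exact hx')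
    (by rw [show w₀ * y₀ * w₀⁻¹ = x₀ * y₀ by decide]; exact hxy)
  have hg : g₀ ∈ N := hN.move x₀ hx' w₀ hw hx (isInv_of hπi (show w₀ ≠ 1 by decide) (by decide))
    (fun h => (show x₀ ≠ w₀ by decide) (hπi h)) (cm (by decide)) g₀
    (by rw [show g₀ * x₀ * g₀⁻¹ = x₀ * w₀ by decide]; exact mul_mem hx' hw)
    (by rw [show g₀ * w₀ * g₀⁻¹ = x₀ by decide]; exact hx')
  let P : Subgroup (Perm (Fin 7)) := N.map (alternatingGroup (Fin 7)).subtype
  have hP : ∀ {a : alternatingGroup (Fin 7)}, a ∈ N → (a : Perm (Fin 7)) ∈ P := fun h => ⟨_, h, rfl⟩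
  have htr : IsPretransitive P (Fin 7) := by
    refine IsPretransitive.mk fun i j => ?_
    have horb : ∀ k : Fin 7, ∃ a ∈ N, (a : Perm (Fin 7)) 0 = k := by
      intro k
      fin_cases k
      · exact ⟨1, one_mem N, rfl⟩
      · exact ⟨_, ha, by decide⟩
      · exact ⟨_, pow_mem ha 2, by decide⟩
      · exact ⟨_, mul_mem hg ha, by decide⟩
      · exact ⟨_, mul_mem hg (pow_mem ha 2), by decide⟩
      · exact ⟨_, mul_mem hg (mul_mem hg ha), by decide⟩
      · exact ⟨_, mul_mem hb (mul_mem hg (mul_mem hg ha)), by decide⟩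
    obtain ⟨p, hp, hpi⟩ := horb i
    obtain ⟨q, hq, hqj⟩ := horb j
    refine ⟨⟨_, hP (mul_mem hq (inv_mem hp))⟩, ?_⟩
    show ((q * p⁻¹ : alternatingGroup (Fin 7)) : Perm (Fin 7)) i = j
    rw [Subgroup.coe_mul, Subgroup.coe_inv, Perm.mul_apply, ← hqj, ← hpi]
    simp
  have hprim : IsPreprimitive P (Fin 7) := IsPreprimitive.of_prime_card (by rw [Nat.card_fin]; norm_num)
  have h3 : (a₀ : Perm (Fin 7)).IsThreeCycle := Perm.isThreeCycle_swap_mul_swap_same (by decide) (by decide) (by decide)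
  have hle := Equiv.Perm.alternatingGroup_le_of_isPreprimitive_of_isThreeCycle_mem hprim h3 (hP ha)
  refine hN.ne_top (eq_top_iff.mpr fun a _ => ?_)
  obtain ⟨a', ha', e'⟩ := hle a.2
  exact (Subtype.ext e' : a' = a) ▸ ha'

end AltSeven

end CfsgLib.ProperCore
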