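import Cfsg.Prelude.Def_ClassificationK
import Cfsg.Agent.Lib.CoreKill.Basic
import Cfsg.Agent.Lib.CoreKill.Local.Defs
import Cfsg.Agent.Lib.CoreKill.Functor

/-!
A proper 2-generated core `M`: it is the only conjugate of itself above two commuting involutions, and at an
involution whose centralizer is not in `M` it gives the setting of the local analysis.

Blueprint: `blueprint/S1728.md`, 1.
-/

set_option autoImplicit false
set_option linter.unusedSectionVars false
set_option linter.style.haveILetI false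

universe u

namespace CfsgLib.ProperCore

open Cfsg Subgroup
open CfsgLib.Bender.TwoClosed (IsInv)
open CfsgLib.Bender.Assembly (orderOf_two isInv_of_orderOf)
open CfsgLib.CoreKill (zpowers_inv pair_group)

variable {G : Type u} [Group G]

/-- `Q` has two commuting involutions. -/
def HasPair (Q : Subgroup G) : Prop :=
  ∃ x ∈ Q, ∃ y ∈ Q, IsInv x ∧ IsInv y ∧ x ≠ y ∧ Commute x y

/-- A proper subgroup above the normalizers of the subgroups of `S` with two commuting involutions. -/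
structure Core (S : Sylow 2 G) (M : Subgroup G) : Prop where
  ne_top : M ≠ ⊤
  le : (S : Subgroup G) ≤ M
  norm : ∀ Q : Subgroup G, Q ≤ (S : Subgroup G) → HasPair Q → normalizer (Q : Set G) ≤ M
  pair : HasPair (S : Subgroup G)

/-- A good involution has its centralizer in `M`. -/
def Good (M : Subgroup G) (v : G) : Prop := centralizer ({v} : Set G) ≤ M

/-- The involution `t` as an element of its centralizer. -/
def inCent (t : G) : ↥(centralizer ({t} : Set G)) := ⟨t, Subgroup.mem_centralizer_singleton_iff.mpr rfl⟩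

theorem inCent_comm {t : G} (x : ↥(centralizer ({t} : Set G))) : Commute x (inCent t) :=
  Subtype.ext (Subgroup.mem_centralizer_singleton_iff.mp x.2)

theorem isInv_sub {K : Subgroup G} {x : K} : IsInv x ↔ IsInv (x : G) :=
  ⟨fun h => ⟨fun e => h.1 (Subtype.ext e), congrArg Subtype.val h.2⟩,
    fun h => ⟨fun e => h.1 (congrArg Subtype.val e), Subtype.ext h.2⟩⟩

theorem HasPair.mono {P Q : Subgroup G} (h : HasPair P) (hle : P ≤ Q) : HasPair Q := by
  obtain ⟨x, hx, y, hy, r⟩ := h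
  exact ⟨x, hle hx, y, hle hy, r⟩

theorem HasPair.map {P : Subgroup G} (h : HasPair P) (g : G) : HasPair (P.map (MulAut.conj g).toMonoidHom) := by
  obtain ⟨x, hx, y, hy, hxi, hyi, hne, hc⟩ := h
  exact ⟨_, ⟨x, hx, rfl⟩, _, ⟨y, hy, rfl⟩, hxi.conj g, hyi.conj g,
    fun e => hne ((MulAut.conj g).injective e), hc.map (MulAut.conj g).toMonoidHom⟩

/-- Two commuting involutions in a subgroup of rank at least two, and conversely. -/
theorem hasPair_iff [Finite G] {Q : Subgroup G} : HasPair Q ↔ ¬ PRankLE 2 1 ↥Q := by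
  constructor
  · rintro ⟨x, hx, y, hy, hxi, hyi, hne, hc⟩ hr
    obtain ⟨U, hUc, -, -, hxU, hyU, hU⟩ := pair_group (G := ↥Q) (x := ⟨x, hx⟩) (y := ⟨y, hy⟩) (isInv_sub.mpr hxi)
      (isInv_sub.mpr hyi) (fun e => hne (congrArg Subtype.val e)) (Subtype.ext hc)
    have hsq : ∀ a ∈ U, a ^ 2 = 1 := fun a ha => by
      rw [pow_two]
      rcases hU a ha with rfl | rfl | rfl | rfl
      · exact one_mul 1
      · exact Subtype.ext hxi.2
      · exact Subtype.ext hyi.2
      · exact Subtype.ext (show x * y * (x * y) = 1 by rw [hc.symm.mul_mul_mul_comm, hxi.2, hyi.2, one_mul])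
    have h2 := hr U hUc hsq
    rw [pow_one] at h2
    have h3 : ({1, ⟨x, hx⟩, ⟨y, hy⟩} : Set ↥Q) ⊆ U := by
      rintro a (rfl | rfl | rfl)
      exacts [one_mem U, hxU, hyU]
    by_cases hfin : (U : Set ↥Q).Finite
    · have h4 := Set.ncard_le_ncard h3 hfin
      rw [Set.ncard_insert_of_notMem (by
          simp only [Set.mem_insert_iff, Set.mem_singleton_iff, not_or]
          exact ⟨fun e => hxi.1 (congrArg Subtype.val e).symm, fun e => hyi.1 (congrArg Subtype.val e).symm⟩)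
          (Set.toFinite _), Set.ncard_pair (fun e => hne (congrArg Subtype.val e)), ← Nat.card_coe_set_eq] at h4
      change 3 ≤ Nat.card U at h4
      omega
    · refine hfin ((Set.toFinite ({1, ⟨x, hx⟩, ⟨y, hy⟩, ⟨x, hx⟩ * ⟨y, hy⟩} : Set ↥Q)).subset fun a ha => ?_)
      simpa using hU a ha
  · intro hr
    simp only [PRankLE, not_forall, not_le, pow_one] at hr
    obtain ⟨A, hA, hsq, hlt⟩ := hr
    haveI := hA
    haveI : Finite A := Nat.finite_of_card_ne_zero (by omega)
    obtain ⟨a, b, ha, hb, hab⟩ : ∃ a b : A, a ≠ 1 ∧ b ≠ 1 ∧ a ≠ b := by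
      classical
      obtain ⟨a, ha⟩ := Finite.one_lt_card_iff_nontrivial.mp (show 1 < Nat.card A by omega) |>.exists_pair_ne
      obtain ⟨b, hb⟩ := ha
      by_contra hno
      push Not at hno
      have hsub : ∀ c : A, c = 1 ∨ c = (if a = 1 then b else a) := fun c => by
        by_cases hc : c = 1
        · exact Or.inl hc
        refine Or.inr ?_
        split
        · next h1 => exact hno c b hc (fun e => hb (h1.trans e.symm))
        · next h1 => exact hno c a hc h1
      have h5 : (Set.univ : Set A) ⊆ {1, if a = 1 then b else a} := fun c _ => hsub c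
      have h6 := (Set.ncard_le_ncard h5).trans (Set.ncard_insert_le _ _)
      rw [Set.ncard_univ, Set.ncard_singleton] at h6
      omega
    have hinv : ∀ c : A, c ≠ 1 → IsInv ((c : ↥Q) : G) := fun c hc => ⟨fun e => hc (Subtype.ext (Subtype.ext e)),
      congrArg Subtype.val ((pow_two (c : ↥Q)).symm.trans (hsq c c.2))⟩
    exact ⟨_, (a : ↥Q).2, _, (b : ↥Q).2, hinv a ha, hinv b hb, fun e => hab (Subtype.ext (Subtype.ext e)),
      congrArg (fun z : A => ((z : ↥Q) : G)) (hA.is_comm.comm a b)⟩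

/-- The 2-generated core of a group of rank at least two, when it is proper. -/
theorem core_of_proper [Finite G] (hc : HasProperTwoGeneratedCore G) :
    ∃ (S : Sylow 2 G) (M : Subgroup G), Core S M := by
  obtain ⟨hr, S, hS⟩ := hc
  haveI := Fact.mk Nat.prime_two
  have hpair : HasPair (S : Subgroup G) := by
    obtain ⟨x, -, y, -, hxi, hyi, hne, hc⟩ : HasPair (⊤ : Subgroup G) := hasPair_iff.mpr fun h => hr fun A hA h2 => by
      have := h (A.map Subgroup.topEquiv.symm.toMonoidHom) (Subgroup.map_isMulCommutative A _) (by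
        rintro _ ⟨a, ha, rfl⟩
        rw [← map_pow, h2 a ha, map_one])
      rwa [Subgroup.card_map_of_injective Subgroup.topEquiv.symm.injective] at this
    obtain ⟨U, -, -, hU, hxU, hyU, -⟩ := pair_group hxi hyi hne hc
    obtain ⟨R, hR⟩ := hU.exists_le_sylow
    obtain ⟨g, rfl⟩ := MulAction.exists_smul_eq G R S
    exact (HasPair.mono ⟨x, hxU, y, hyU, hxi, hyi, hne, hc⟩ hR).map g
  refine ⟨S, _, hS, ?_, fun Q hQ hp => have h : ¬ PRankLE 2 (2 - 1) ↥Q := hasPair_iff.mp hp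
    le_iSup (fun Q : {Q : Subgroup G // Q ≤ (S : Subgroup G) ∧ ¬ PRankLE 2 (2 - 1) Q} =>
    normalizer ((Q : Subgroup G) : Set G)) ⟨Q, hQ, h⟩, hpair⟩
  exact Subgroup.le_normalizer.trans (le_iSup (fun Q : {Q : Subgroup G // Q ≤ (S : Subgroup G) ∧ ¬ PRankLE 2 (2 - 1) Q} =>
    normalizer ((Q : Subgroup G) : Set G)) ⟨S, le_rfl, show ¬ PRankLE 2 (2 - 1) ↥(S : Subgroup G) from hasPair_iff.mp hpair⟩)

namespace Core

variable [Finite G] {S : Sylow 2 G} {M : Subgroup G} (C : Core S M)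
include C

/-- The normalizer of a 2-subgroup of `M` with two commuting involutions lies in `M`. -/
theorem norm_le {Q : Subgroup G} (hQ : IsPGroup 2 Q) (hQM : Q ≤ M) (hp : HasPair Q) :
    normalizer (Q : Set G) ≤ M := by
  obtain ⟨m, hm, hmS⟩ := Bender.Q.exists_conj_sylow C.le hQ hQM
  intro n hn
  have h1 : m * n * m⁻¹ ∈ M := C.norm (Q.map (MulAut.conj m).toMonoidHom)
    (by rintro _ ⟨x, hx, rfl⟩; exact hmS x hx) (hp.map m) (by
      rw [← Subgroup.map_equiv_normalizer_eq]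
      exact ⟨n, hn, by simp⟩)
  have h2 := mul_mem (mul_mem (inv_mem hm) h1) hm
  rwa [show m⁻¹ * (m * n * m⁻¹) * m = n by group] at h2

/-- A 2-group meeting `M` in two commuting involutions lies in `M`. -/
theorem two_le {Q : Subgroup G} (hQ : IsPGroup 2 Q) {x y : G} (hxQ : x ∈ Q) (hyQ : y ∈ Q) (hxM : x ∈ M)
    (hyM : y ∈ M) (hx : IsInv x) (hy : IsInv y) (hne : x ≠ y) (hc : Commute x y) : Q ≤ M := by
  by_contra hn
  haveI := hQ.isNilpotent
  haveI : Fact (Nat.Prime 2) := ⟨Nat.prime_two⟩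
  obtain ⟨⟨g, hg⟩, hgN, hgn⟩ := SetLike.exists_of_lt (Group.normalizerCondition_of_isNilpotent (M.subgroupOf Q)
    (lt_top_iff_ne_top.mpr fun e => hn (Subgroup.subgroupOf_eq_top.mp e)))
  refine hgn (C.norm_le (Q := Q ⊓ M) (hQ.to_le inf_le_left) inf_le_right
    ⟨x, ⟨hxQ, hxM⟩, y, ⟨hyQ, hyM⟩, hx, hy, hne, hc⟩ (Comp.mem_normalizer_of_maps fun a ha => ?_))
  exact ⟨Q.mul_mem (Q.mul_mem hg ha.1) (Q.inv_mem hg),
    (Subgroup.mem_normalizer_iff.mp hgN ⟨a, ha.1⟩).mp (show _ from ha.2)⟩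

/-- `M` is the only conjugate of itself above two commuting involutions. -/
theorem mem_of_pair {x y g : G} (hx : IsInv x) (hy : IsInv y) (hne : x ≠ y) (hc : Commute x y) (hxM : x ∈ M)
    (hyM : y ∈ M) (hgx : g * x * g⁻¹ ∈ M) (hgy : g * y * g⁻¹ ∈ M) : g ∈ M := by
  haveI : Fact (Nat.Prime 2) := ⟨Nat.prime_two⟩
  obtain ⟨U, -, -, hU, hxU, hyU, hUe⟩ := pair_group hx hy hne hc
  have hUM : U ≤ M := fun a ha => by
    rcases hUe a ha with rfl | rfl | rfl | rfl
    exacts [one_mem _, hxM, hyM, mul_mem hxM hyM]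
  obtain ⟨T, hT⟩ := hU.exists_le_sylow
  have hTM : (T : Subgroup G) ≤ M := C.two_le T.isPGroup' (hT hxU) (hT hyU) hxM hyM hx hy hne hc
  have hgT : ((g • T : Sylow 2 G) : Subgroup G) ≤ M :=
    C.two_le (g • T : Sylow 2 G).isPGroup' ⟨x, hT hxU, rfl⟩ ⟨y, hT hyU, rfl⟩ hgx hgy (hx.conj g) (hy.conj g)
      (fun e => hne ((MulAut.conj g).injective e)) (hc.map (MulAut.conj g).toMonoidHom)
  obtain ⟨k, hk⟩ := MulAction.exists_smul_eq ↥M ((g • T).subtype hgT) (T.subtype hTM)
  have h1 : ((k : G) * g) • T = T := by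
    refine Sylow.ext (SetLike.ext fun a => ⟨?_, fun ha => ?_⟩)
    · rintro ⟨b, hb, rfl⟩
      have hgb : g * b * g⁻¹ ∈ ((g • T : Sylow 2 G) : Subgroup G) := ⟨b, hb, rfl⟩
      have h2 : k * ⟨g * b * g⁻¹, hgT hgb⟩ * k⁻¹ ∈ ((k • (g • T).subtype hgT : Sylow 2 M) : Subgroup M) :=
        ⟨⟨_, hgT hgb⟩, hgb, rfl⟩
      rw [hk] at h2
      have h3 : ((k : G) * (g * b * g⁻¹) * (k : G)⁻¹) ∈ (T : Subgroup G) := h2
      show (k : G) * g * b * ((k : G) * g)⁻¹ ∈ _
      rwa [show (k : G) * g * b * ((k : G) * g)⁻¹ = (k : G) * (g * b * g⁻¹) * (k : G)⁻¹ by group]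
    · have h2 : (⟨a, hTM ha⟩ : M) ∈ ((k • (g • T).subtype hgT : Sylow 2 M) : Subgroup M) := hk.symm ▸ ha
      obtain ⟨c, hc', he⟩ := h2
      obtain ⟨b, hb, hbe⟩ := (hc' : (c : G) ∈ ((g • T : Sylow 2 G) : Subgroup G))
      refine ⟨b, hb, ?_⟩
      have he' : (k : G) * c * (k : G)⁻¹ = a := congrArg Subtype.val he
      have hbe' : g * b * g⁻¹ = c := hbe
      show (k : G) * g * b * ((k : G) * g)⁻¹ = a
      rw [← he', ← hbe']
      group
  have h4 := C.norm_le T.isPGroup' hTM ⟨x, hT hxU, y, hT hyU, hx, hy, hne, hc⟩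
    (Sylow.smul_eq_iff_mem_normalizer.mp h1)
  have h5 := mul_mem (inv_mem k.2) h4
  rwa [inv_mul_cancel_left] at h5

/-- Every involution of `M` commutes with another one in `M`. -/
theorem pair_at {v : G} (hv : IsInv v) (hvM : v ∈ M) : ∃ u ∈ M, IsInv u ∧ u ≠ v ∧ Commute v u := by
  haveI : Fact (Nat.Prime 2) := ⟨Nat.prime_two⟩
  obtain ⟨m, hm, hmS⟩ := Bender.Q.exists_conj_sylow C.le (zpowers_inv hv) (zpowers_le.mpr hvM)
  have hvS := hmS v (mem_zpowers v)
  set v' := m * v * m⁻¹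
  obtain ⟨u, huS, hu, hne, hc⟩ : ∃ u ∈ (S : Subgroup G), IsInv u ∧ u ≠ v' ∧ Commute v' u := by
    obtain ⟨z, hzS, hz, hzc⟩ := Comp.exists_central_in_normal (p := 2) S.isPGroup' le_rfl Subgroup.le_normalizer
      fun e => (hv.conj m).1 (Subgroup.mem_bot.mp (e ▸ hvS))
    by_cases hzv : z = v'
    · obtain ⟨x, hx, y, hy, hxi, hyi, hne, -⟩ := C.pair
      by_cases hxv : x = v'
      · exact ⟨y, hy, hyi, fun e => hne (hxv.trans e.symm), hzv ▸ (hzc y hy).symm⟩
      · exact ⟨x, hx, hxi, hxv, hzv ▸ (hzc x hx).symm⟩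
    · exact ⟨z, hzS, isInv_of_orderOf hz, hzv, hzc v' hvS⟩
  refine ⟨m⁻¹ * u * m, mul_mem (mul_mem (inv_mem hm) (C.le huS)) hm, ?_, fun e => hne ?_, ?_⟩
  · simpa using hu.conj m⁻¹
  · rw [show v' = m * v * m⁻¹ from rfl, ← e]; group
  · show v * (m⁻¹ * u * m) = m⁻¹ * u * m * v
    calc v * (m⁻¹ * u * m) = m⁻¹ * (v' * u) * m := by simp only [v']; group
      _ = m⁻¹ * (u * v') * m := by rw [hc.eq]
      _ = _ := by simp only [v']; group

/-- A good involution fuses into `M` only inside `M`. -/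
theorem good_mem {v g : G} (hv : IsInv v) (hvM : v ∈ M) (hgood : Good M v) (hgv : g * v * g⁻¹ ∈ M) : g ∈ M := by
  obtain ⟨u, huM, hu, hne, hc⟩ := C.pair_at (hv.conj g) hgv
  have h1 : g⁻¹ * u * g ∈ M := hgood (Subgroup.mem_centralizer_singleton_iff.mpr (by
    calc g⁻¹ * u * g * v = g⁻¹ * (u * (g * v * g⁻¹)) * g := by group
      _ = g⁻¹ * (g * v * g⁻¹ * u) * g := by rw [hc.eq]
      _ = v * (g⁻¹ * u * g) := by group))
  have h2 := C.mem_of_pair (g := g⁻¹) (hv.conj g) hu hne.symm hc hgv huM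
    (by rwa [show g⁻¹ * (g * v * g⁻¹) * g⁻¹⁻¹ = v by group]) (by rwa [inv_inv])
  exact inv_inv g ▸ inv_mem h2

/-- An involution of `M` conjugate to a good one is good. -/
theorem good_conj {v g : G} (hv : IsInv v) (hvM : v ∈ M) (hgood : Good M v) (hgv : g * v * g⁻¹ ∈ M) :
    Good M (g * v * g⁻¹) := fun c hc => by
  have hg := C.good_mem hv hvM hgood hgv
  have h1 : g⁻¹ * c * g ∈ M := hgood (Subgroup.mem_centralizer_singleton_iff.mpr (by
    calc g⁻¹ * c * g * v = g⁻¹ * (c * (g * v * g⁻¹)) * g := by group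
      _ = g⁻¹ * ((g * v * g⁻¹) * c) * g := by rw [Subgroup.mem_centralizer_singleton_iff.mp hc]
      _ = _ := by group))
  have h2 := mul_mem (mul_mem hg h1) (inv_mem hg)
  rwa [show g * (g⁻¹ * c * g) * g⁻¹ = c by group] at h2

/-- At a bad involution `t` of `M`, a Sylow subgroup of its centralizer with a second involution of `M` gives the
setting. -/
theorem pt0 {t : G} (ht : IsInv t) (htM : t ∈ M) (hbad : ¬ Good M t) (P : Sylow 2 ↥(centralizer ({t} : Set G)))
    {u : ↥(centralizer ({t} : Set G))} (huP : u ∈ (P : Subgroup _)) (huM : (u : G) ∈ M) (hu : IsInv u)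
    (hut : u ≠ inCent t) :
    CoreKill.Local.Pt0 (M.subgroupOf (centralizer ({t} : Set G))) P (inCent t) := by
  haveI : Fact (Nat.Prime 2) := ⟨Nat.prime_two⟩
  have htP : inCent t ∈ (P : Subgroup _) := by
    have h1 : IsPGroup 2 ↥((P : Subgroup _) ⊔ zpowers (inCent t)) := P.isPGroup'.to_sup_of_normal_left'
      (zpowers_inv (isInv_sub.mpr ht : IsInv (inCent t))) (zpowers_le.mpr (Subgroup.mem_normalizer_fintype
        fun a ha => by
          rwa [← (inCent_comm a).eq, mul_inv_cancel_right]))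
    exact P.is_maximal' h1 le_sup_left ▸ mem_sup_right (mem_zpowers (inCent t))
  refine ⟨fun e => hbad (Subgroup.subgroupOf_eq_top.mp e), fun x hx => ?_, isInv_sub.mpr ht, inCent_comm,
    fun v hv hvi hvt x hxv => ?_⟩
  · exact C.two_le (P.isPGroup'.map (centralizer ({t} : Set G)).subtype) ⟨_, htP, rfl⟩ ⟨u, huP, rfl⟩ htM huM ht
      (isInv_sub.mp hu) (fun e => hut (Subtype.ext e.symm)) (congrArg Subtype.val (inCent_comm u).eq).symm
      ⟨x, hx, rfl⟩
  · exact C.mem_of_pair ht (isInv_sub.mp hvi) (fun e => hvt (Subtype.ext e.symm))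
      (Subgroup.mem_centralizer_singleton_iff.mp v.2).symm htM hv
      (show (x : G) * t * (x : G)⁻¹ ∈ M by
        rwa [Subgroup.mem_centralizer_singleton_iff.mp x.2, mul_inv_cancel_right]) hxv

/-- In an elementary subgroup of order eight of `M` the centralizer of the bad `t` gives the setting. -/
theorem pt {t : G} (ht : IsInv t) (htM : t ∈ M) (hbad : ¬ Good M t) {B : Subgroup G}
    (hB : IsElementaryAbelian 2 B) (hB8 : 8 ≤ Nat.card B) (htB : t ∈ B) (hBM : B ≤ M) :
    ∃ P : Sylow 2 ↥(centralizer ({t} : Set G)), B.subgroupOf (centralizer ({t} : Set G)) ≤ P ∧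
      CoreKill.Local.Pt (M.subgroupOf (centralizer ({t} : Set G))) P (inCent t) := by
  haveI : Fact (Nat.Prime 2) := ⟨Nat.prime_two⟩
  have hBC : B ≤ centralizer ({t} : Set G) := fun b hb =>
    Subgroup.mem_centralizer_singleton_iff.mpr (Signalizer.ea_comm hB hb htB)
  have hB'e : IsElementaryAbelian 2 (B.subgroupOf (centralizer ({t} : Set G))) :=
    SolvSF.ea_of_comm (fun a ha b hb => Subtype.ext (Signalizer.ea_comm hB ha hb))
      fun a ha => Subtype.ext (hB.2 _ ha)
  obtain ⟨P, hP⟩ := (Signalizer.isPGroup_ea hB'e).exists_le_sylow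
  obtain ⟨b, hb, hbz⟩ := SetLike.not_le_iff_exists.mp (show ¬ B ≤ zpowers t from fun h => by
    have := Subgroup.card_le_of_le h
    rw [Nat.card_zpowers, orderOf_two ht] at this
    omega)
  have hbi : IsInv b := ⟨fun e => hbz (e ▸ one_mem _), by rw [← pow_two]; exact hB.2 b hb⟩
  exact ⟨P, hP, C.pt0 ht htM hbad P (u := ⟨b, hBC hb⟩) (hP hb) (hBM hb) (isInv_sub.mpr hbi)
      (fun e => hbz (by rw [show b = t from congrArg Subtype.val e]; exact mem_zpowers t)),
    _, hP, hB'e, hB8.trans (le_of_eq (Nat.card_congr (Subgroup.subgroupOfEquivOfLe hBC).toEquiv).symm)⟩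

end Core

end CfsgLib.ProperCore
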