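import Cfsg.Agent.Lib.ProperCore.Basic
import Cfsg.Agent.Lib.CoreKill.CentralConn

/-!
In a 2-group of rank at least three an involution `p` that is not conjugate to its product with a central involution
`z` lies with `z` in an elementary subgroup of order eight.

Blueprint: `blueprint/S1728.md`, 2.
-/

set_option autoImplicit false
set_option linter.unusedSectionVars false
set_option linter.style.haveILetI false

universe u

namespace CfsgLib.ProperCore

open Cfsg Subgroup
open CfsgLib.Bender.TwoClosed (IsInv)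
open CfsgLib.Bender.Assembly (orderOf_two isInv_of_orderOf)
open CfsgLib.Signalizer (ea_comm isPGroup_ea)

variable {G : Type u} [Group G] [Finite G]

/-- Three commuting independent involutions span an elementary subgroup of order eight. -/
theorem eight_of_three {a b c : G} (ha : IsInv a) (hb : IsInv b) (hc : IsInv c) (hab : Commute a b) (hac : Commute a c)
    (hbc : Commute b c) (h1 : a ≠ b) (h2 : c ≠ a) (h3 : c ≠ b) (h4 : c ≠ a * b) :
    IsElementaryAbelian 2 (zpowers a ⊔ zpowers b ⊔ zpowers c) ∧ 8 ≤ Nat.card ↥(zpowers a ⊔ zpowers b ⊔ zpowers c) := by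
  obtain ⟨hA, h4'⟩ := CoreKill.card_pair (orderOf_two ha) (orderOf_two hb) h1 hab.eq
  obtain ⟨U, -, -, -, haU, hbU, hU⟩ := CoreKill.pair_group ha hb h1 hab
  have hle : zpowers a ⊔ zpowers b ≤ U := sup_le (zpowers_le.mpr haU) (zpowers_le.mpr hbU)
  have hB := TwoLocalSignalizer.ea_sup hA (CoreKill.ea_zpowers hc.2) fun x hx y hy => by
    obtain ⟨i, rfl⟩ := mem_zpowers_iff.mp hy
    refine (Commute.zpow_right ?_ i).eq
    rcases hU x (hle hx) with rfl | rfl | rfl | rfl
    exacts [Commute.one_left c, hac, hbc, hac.mul_left hbc]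
  refine ⟨hB, TwoLocalSignalizer.eight_le_of_four_lt (isPGroup_ea hB) ?_⟩
  refine lt_of_le_of_ne (h4' ▸ Subgroup.card_le_of_le le_sup_left) fun e => ?_
  have h5 := Subgroup.eq_of_le_of_card_ge (le_sup_left (a := zpowers a ⊔ zpowers b) (b := zpowers c)) (by omega)
  rcases hU c (hle (h5.ge (mem_sup_right (mem_zpowers c)))) with e' | e' | e' | e'
  exacts [hc.1 e', h2 e', h3 e', h4 e']

/-- `p` lies with the central `z` in an elementary subgroup of order eight of `S`, unless `p` moves to `p z`. -/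
theorem exists_eight_with (S : Sylow 2 G) (h3 : ¬ PRankLE 2 2 G) {z p : G} (hzS : z ∈ (S : Subgroup G)) (hz : IsInv z)
    (hzc : ∀ s ∈ (S : Subgroup G), Commute s z) (hpS : p ∈ (S : Subgroup G)) (hp : IsInv p) (hpz : p ≠ z)
    (hno : ∀ s ∈ (S : Subgroup G), s * p * s⁻¹ ≠ p * z) :
    ∃ B ≤ (S : Subgroup G), IsElementaryAbelian 2 B ∧ 8 ≤ Nat.card B ∧ z ∈ B ∧ p ∈ B := by
  haveI := Fact.mk Nat.prime_two
  obtain ⟨E, hES, hE, hE8⟩ := CoreKill.exists_eight_in S h3
  have hzp : Commute z p := (hzc p hpS).symm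
  suffices hc : ∃ c ∈ (S : Subgroup G), IsInv c ∧ Commute z c ∧ Commute p c ∧ c ≠ z ∧ c ≠ p ∧ c ≠ z * p by
    obtain ⟨c, hcS, hci, h1, h2, h4, h5, h6⟩ := hc
    obtain ⟨hB, hB8⟩ := eight_of_three hz hp hci hzp h1 h2 hpz.symm h4 h5 h6
    exact ⟨_, sup_le (sup_le (zpowers_le.mpr hzS) (zpowers_le.mpr hpS)) (zpowers_le.mpr hcS), hB, hB8,
      mem_sup_left (mem_sup_left (mem_zpowers z)), mem_sup_left (mem_sup_right (mem_zpowers p))⟩
  by_cases hpc : ∀ s ∈ (S : Subgroup G), Commute s p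
  · obtain ⟨c, hc, hcn⟩ := SetLike.not_le_iff_exists.mp (show ¬ E ≤ zpowers z ⊔ zpowers p from fun hle => by
      have h1 := Subgroup.card_le_of_le hle
      rw [(CoreKill.card_pair (orderOf_two hz) (orderOf_two hp) hpz.symm hzp.eq).2] at h1
      omega)
    exact ⟨c, hES hc, ⟨fun e => hcn (e ▸ one_mem _), by rw [← pow_two]; exact hE.2 c hc⟩, (hzc c (hES hc)).symm,
      (hpc c (hES hc)).symm, fun e => hcn (by rw [e]; exact mem_sup_left (mem_zpowers z)),
      fun e => hcn (by rw [e]; exact mem_sup_right (mem_zpowers p)),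
      fun e => hcn (by rw [e]; exact mul_mem (mem_sup_left (mem_zpowers z)) (mem_sup_right (mem_zpowers p)))⟩
  push Not at hpc
  obtain ⟨s₀, hs₀, hs₀p⟩ := hpc
  -- a normal four group of `S`
  have h8 : 8 ≤ Nat.card (E.subgroupOf (S : Subgroup G)) := by
    rwa [Nat.card_congr (Subgroup.subgroupOfEquivOfLe hES).toEquiv]
  have hdvd : 2 ^ 3 ∣ Nat.card (E.subgroupOf (S : Subgroup G)) := by
    obtain ⟨k, hk⟩ := IsPGroup.iff_card.mp (S.isPGroup'.to_subgroup (E.subgroupOf (S : Subgroup G)))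
    rw [hk] at h8 ⊢
    refine pow_dvd_pow 2 ?_
    by_contra hlt
    have := Nat.pow_le_pow_right (show 0 < 2 by norm_num) (show k ≤ 2 by omega)
    omega
  obtain ⟨E₈, hE₈⟩ := Sylow.exists_subgroup_card_pow_prime (G := ↥(E.subgroupOf (S : Subgroup G))) 2 hdvd
  obtain ⟨U, hUn, hU4, hU2⟩ := RankThreeCent.exists_normal_four S.isPGroup' (E₈.map (E.subgroupOf (S : Subgroup G)).subtype)
    (by rw [Subgroup.card_map_of_injective (E.subgroupOf (S : Subgroup G)).subtype_injective, hE₈]; norm_num)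
    (by rintro _ ⟨e, -, rfl⟩; exact Subtype.ext (hE.2 _ e.2))
  haveI := hUn
  haveI := S.isPGroup'.isNilpotent
  obtain ⟨c, hcm, hc1⟩ := SetLike.exists_of_lt (bot_lt_iff_ne_bot.mpr (CfsgLib.inf_center_ne_bot_of_nilpotent
    (show U ≠ ⊥ from fun e => by rw [e, Subgroup.card_bot] at hU4; omega)))
  obtain ⟨hcU, hcc⟩ := Subgroup.mem_inf.mp hcm
  have hci : IsInv (c : G) := ⟨fun e => hc1 (Subgroup.mem_bot.mpr (Subtype.ext e)),
    by rw [← pow_two]; exact congrArg Subtype.val (hU2 c hcU)⟩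
  have hcc' : ∀ s ∈ (S : Subgroup G), Commute s (c : G) := fun s hs =>
    congrArg Subtype.val (Subgroup.mem_center_iff.mp hcc ⟨s, hs⟩)
  have hcp : (c : G) ≠ p := fun e => hs₀p (e ▸ hcc' s₀ hs₀)
  have hczp : (c : G) ≠ z * p := fun e => hs₀p (by
    have h1 := (hzc s₀ hs₀).mul_right (e ▸ hcc' s₀ hs₀)
    rwa [← mul_assoc, hz.2, one_mul] at h1)
  by_cases hcz : (c : G) = z
  swap
  · exact ⟨c, c.2, hci, (hzc c c.2).symm, hcc' p hpS, hcz, hcp, hczp⟩
  -- the other members of the four group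
  obtain ⟨u, huU, hu1⟩ := SetLike.not_le_iff_exists.mp (show ¬ U ≤ zpowers c from fun hle => by
    have h1 := Subgroup.card_le_of_le hle
    rw [Nat.card_zpowers, orderOf_two (isInv_sub.mpr hci), hU4] at h1
    omega)
  have hui : IsInv u := ⟨fun e => hu1 (e ▸ one_mem _), by rw [← pow_two]; exact hU2 u huU⟩
  obtain ⟨hA, h4⟩ := CoreKill.card_pair (orderOf_two (isInv_sub.mpr hci)) (orderOf_two hui)
    (fun e => hu1 (e ▸ mem_zpowers c)) (Subgroup.mem_center_iff.mp hcc u).symm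
  have hUeq : zpowers c ⊔ zpowers u = U := Subgroup.eq_of_le_of_card_ge
    (sup_le (zpowers_le.mpr hcU) (zpowers_le.mpr huU)) (by omega)
  have hUmem : ∀ x ∈ U, x = 1 ∨ x = c ∨ x = u ∨ x = c * u := fun x hx =>
    (CoreKill.klein_pair (isInv_sub.mpr hci) hui (fun e => hu1 (e ▸ mem_zpowers c))
      (Subgroup.mem_center_iff.mp hcc u).symm).2 x (hUeq.symm ▸ hx)
  have huz : (u : G) ≠ z := fun e => hu1 ((Subtype.ext (e.trans hcz.symm) : u = c) ▸ mem_zpowers c)
  have hmove : ∀ s : ↥(S : Subgroup G), (s : G) * u * (s : G)⁻¹ = u ∨ (s : G) * u * (s : G)⁻¹ = z * u := by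
    intro s
    rcases hUmem _ (hUn.conj_mem u huU s) with e | e | e | e
    · exact absurd (conj_eq_one_iff.mp e) hui.1
    · refine absurd (congrArg Subtype.val ?_) (hcz ▸ huz : (u : G) ≠ (c : G))
      calc u = s⁻¹ * (s * u * s⁻¹) * s := by group
        _ = s⁻¹ * c * s := by rw [e]
        _ = c := by rw [mul_assoc, ← Subgroup.mem_center_iff.mp hcc s, inv_mul_cancel_left]
    · exact Or.inl (congrArg Subtype.val e)
    · refine Or.inr ?_
      rw [← hcz]
      exact congrArg Subtype.val e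
  have hpu : Commute p (u : G) := by
    rcases hmove ⟨p, hpS⟩ with e | e
    · exact mul_inv_eq_iff_eq_mul.mp e
    · refine absurd ?_ (hno u u.2)
      have e' : p * u = z * u * p := mul_inv_eq_iff_eq_mul.mp e
      have huG : (u : G) * u = 1 := congrArg Subtype.val hui.2
      calc (u : G) * p * (u : G)⁻¹ = z * (z * u * p) * u := by
            rw [inv_eq_of_mul_eq_one_right huG, ← mul_assoc z (z * u) p, ← mul_assoc z z, hz.2, one_mul]
        _ = z * p * (u * u) := by rw [← e']; group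
        _ = p * z := by rw [huG, mul_one, hzp.eq]
  refine ⟨u, u.2, isInv_sub.mp hui, (hzc u u.2).symm, hpu, huz, fun e => ?_, fun e => ?_⟩
  · rcases hmove ⟨s₀, hs₀⟩ with e' | e' <;> rw [e] at e'
    · exact hs₀p (mul_inv_eq_iff_eq_mul.mp e')
    · exact hno s₀ hs₀ (e'.trans hzp.eq)
  · rcases hmove ⟨s₀, hs₀⟩ with e' | e'
    · rw [e] at e'
      refine hs₀p ?_
      have h1 := (hzc s₀ hs₀).mul_right (mul_inv_eq_iff_eq_mul.mp e' : Commute s₀ (z * p))
      rwa [← mul_assoc, hz.2, one_mul] at h1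
    · rw [e] at e'
      refine hno s₀ hs₀ ?_
      calc s₀ * p * s₀⁻¹ = z⁻¹ * (z * s₀ * p * s₀⁻¹) := by group
        _ = z⁻¹ * (s₀ * (z * p) * s₀⁻¹) := by rw [← (hzc s₀ hs₀).eq]; group
        _ = p * z := by rw [e', inv_mul_cancel_left, hzp.eq]

end CfsgLib.ProperCore
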