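import Cfsg.Agent.Lib.ProperCore.TwinCases
import Cfsg.Prelude.Def_SporadicB
import Mathlib.GroupTheory.GroupAction.Jordan
import Mathlib.GroupTheory.SpecificGroups.Alternating

/-!
A twin with two lines only: `X` is the nonsplit double cover of the alternating group of degree nine.

Blueprint: `blueprint/S1728.md`, 2.
-/

set_option autoImplicit false
set_option linter.unusedSectionVars false
set_option linter.style.haveILetI false

universe u

namespace CfsgLib.ProperCore

open Cfsg Subgroup MulAction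
open CfsgLib.Bender.TwoClosed (IsInv)
open CfsgLib.CoreKill.Local

section Perm

variable {Ω : Type*} [DecidableEq Ω]

theorem app_inv (f : Equiv.Perm Ω) (z : Ω) : f (f⁻¹ z) = z := by
  rw [← Equiv.Perm.mul_apply, mul_inv_cancel, Equiv.Perm.one_apply]

theorem inv_app (f : Equiv.Perm Ω) (z : Ω) : f⁻¹ (f z) = z := by
  rw [← Equiv.Perm.mul_apply, inv_mul_cancel, Equiv.Perm.one_apply]

/-- Two permutations whose supports meet in one point have a three cycle as commutator. -/
theorem commutator_eq {a b : Equiv.Perm Ω} {A B : Set Ω} {o : Ω} (hA : ∀ z, z ∉ A → a z = z)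
    (hB : ∀ z, z ∉ B → b z = z) (hAB : ∀ z, z ∈ A → z ∈ B → z = o) (hoA : o ∈ A) (hoB : o ∈ B)
    (ha : a o ≠ o) (hb : b o ≠ o) :
    a * b * a⁻¹ * b⁻¹ = Equiv.swap o (b o) * Equiv.swap o (a o) := by
  have hA' : ∀ z, z ∈ A → a z ∈ A := fun z hz => by
    by_contra h
    exact h (by rw [a.injective (hA _ h)]; exact hz)
  have hB' : ∀ z, z ∈ B → b z ∈ B := fun z hz => by
    by_contra h
    exact h (by rw [b.injective (hB _ h)]; exact hz)
  have hAi : ∀ z, z ∈ A → a⁻¹ z ∈ A := fun z hz => by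
    by_contra h
    have e := hA _ h
    rw [← Equiv.Perm.mul_apply, mul_inv_cancel, Equiv.Perm.one_apply] at e
    exact h (e ▸ hz)
  have hBi : ∀ z, z ∈ B → b⁻¹ z ∈ B := fun z hz => by
    by_contra h
    have e := hB _ h
    rw [← Equiv.Perm.mul_apply, mul_inv_cancel, Equiv.Perm.one_apply] at e
    exact h (e ▸ hz)
  have fixA : ∀ z, z ∈ B → z ≠ o → a z = z := fun z hz hne => hA z fun h => hne (hAB z h hz)
  have fixB : ∀ z, z ∈ A → z ≠ o → b z = z := fun z hz hne => hB z fun h => hne (hAB z hz h)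
  have invfix : ∀ {f : Equiv.Perm Ω} {z : Ω}, f z = z → f⁻¹ z = z := fun {f z} e =>
    Equiv.Perm.inv_eq_iff_eq.mpr e.symm
  have hx : a o ∈ A := hA' o hoA
  have hy : b o ∈ B := hB' o hoB
  have hxy : a o ≠ b o := fun e => ha (hAB _ hx (e ▸ hy))
  have hai : a⁻¹ o ≠ o := fun e => ha (Equiv.Perm.inv_eq_iff_eq.mp e).symm
  have hbi : b⁻¹ o ≠ o := fun e => hb (Equiv.Perm.inv_eq_iff_eq.mp e).symm
  ext z
  simp only [Equiv.Perm.mul_apply]
  by_cases hzo : z = o
  · rw [hzo, invfix (fixA _ (hBi o hoB) hbi), app_inv,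
      Equiv.swap_apply_left, Equiv.swap_apply_of_ne_of_ne ha hxy]
  by_cases hzx : z = a o
  · rw [hzx, invfix (fixB _ hx ha), inv_app, fixA _ hy hb,
      Equiv.swap_apply_right, Equiv.swap_apply_left]
  by_cases hzy : z = b o
  · rw [hzy, inv_app, fixB _ (hAi o hoA) hai, app_inv,
      Equiv.swap_apply_of_ne_of_ne hb hxy.symm, Equiv.swap_apply_right]
  rw [Equiv.swap_apply_of_ne_of_ne hzo hzx, Equiv.swap_apply_of_ne_of_ne hzo hzy]
  by_cases hzA : z ∈ A
  · have h1 : a⁻¹ z ≠ o := fun e => hzx (Equiv.Perm.inv_eq_iff_eq.mp e)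
    rw [invfix (fixB _ hzA hzo), fixB _ (hAi z hzA) h1, app_inv]
  by_cases hzB : z ∈ B
  · have h1 : b⁻¹ z ≠ o := fun e => hzy (Equiv.Perm.inv_eq_iff_eq.mp e)
    rw [invfix (fixA _ (hBi z hzB) h1), app_inv, hA z hzA]
  rw [invfix (hB z hzB), invfix (hA z hzA), hB z hzB, hA z hzA]

end Perm

variable {X : Type u} [Group X] [Finite X] {H : Subgroup X} {P : Sylow 2 X} {t : X} {R C : Subgroup X}

namespace Twin'

variable (h : Pt H P t) (T : Twin H P t R C) (hO : oddCore X = ⊥)
  {r : X} (hr : r ∈ R) (hr1 : r ≠ 1) (hrt : r ≠ t) {c : X} (hc : c ∈ C) (hc1 : c ≠ 1) (hct : c ≠ t)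
  (hs : Shared H r c)
include h T hO hr hr1 hrt hc hc1 hct hs

local notation "N" => Subgroup.normalizer (Subgroup.zpowers r : Set X)

/-- The points are the two lines. -/
theorem card_points : Nat.card (X ⧸ H) = 9 := by
  have hu : fixSet H r ∪ fixSet H c = Set.univ :=
    Set.eq_univ_of_forall fun p => nine_cover h T hO hr hr1 hrt hc hc1 hct hs p
  have hi : fixSet H r ∩ fixSet H c = {base H} := by
    ext p
    refine ⟨fun hp => inter h T hr hr1 hrt hc hc1 hct hp.1 hp.2, fun e => ?_⟩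
    rw [Set.mem_singleton_iff.mp e]
    exact ⟨T.base_mem h hr, fix_base.mpr (T.C_mem_H h hc)⟩
  have h1 := Set.ncard_union_add_ncard_inter (fixSet H r) (fixSet H c) (Set.toFinite _) (Set.toFinite _)
  rw [hu, hi, T.card_fix h hr hr1 hrt, T.card_fixC h hc hc1 hct, Set.ncard_univ, Set.ncard_singleton] at h1
  omega

/-- An element of order five of `N(<r>)` moves exactly the line of `R`. -/
theorem exists_five : ∃ f : X, f • base H ≠ base H ∧ ∀ p, p ∉ fixSet H r → f • p = p := by
  haveI : Fact (Nat.Prime 5) := ⟨by norm_num⟩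
  obtain ⟨-, -, P', -, hQ⟩ := T.quat h r hr hr1 hrt
  have h5 : 5 ∣ Nat.card ↥N := hQ.five ▸ Subgroup.index_dvd_card _
  obtain ⟨⟨f, hfN⟩, hf⟩ := exists_prime_orderOf_dvd_card' 5 h5
  have hf5 : f ^ 5 = 1 := congrArg Subtype.val (orderOf_dvd_iff_pow_eq_one.mp hf.dvd)
  have hf1 : f ≠ 1 := fun e => by
    rw [show (⟨f, hfN⟩ : ↥N) = 1 from Subtype.ext e, orderOf_one] at hf
    omega
  -- outside the line of `R` there are four points
  have hfour : ∀ (S : Set (X ⧸ H)), S.ncard ≤ 4 → (∀ p ∈ S, f • p ∈ S) → ∀ p ∈ S, f • p = p := by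
    intro S hS hcl p hp
    by_contra hne
    have hpS : ∀ i : ℕ, f ^ i • p ∈ S := fun i => by
      induction i with
      | zero => rwa [pow_zero, one_smul]
      | succ i ih => rw [pow_succ', mul_smul]; exact hcl _ ih
    have hper : ∀ i, f ^ i • p = p → 5 ∣ i := by
      intro i hi
      by_contra hn
      obtain ⟨j, hj⟩ := Nat.exists_mul_mod_eq_one_of_coprime ((Nat.Prime.coprime_iff_not_dvd (by norm_num)).mpr hn).symm
        (by norm_num : 1 < 5)
      have h1 : ∀ k : ℕ, (f ^ i) ^ k • p = p := fun k => by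
        induction k with
        | zero => rw [pow_zero, one_smul]
        | succ k ih => rw [pow_succ, mul_smul, hi, ih]
      refine hne ?_
      have h2 := h1 j
      rwa [← pow_mul, ← Nat.mod_add_div (i * j) 5, pow_add, pow_mul, hf5, one_pow, mul_one, hj.2, pow_one] at h2
    have hinj : Function.Injective (fun i : Fin 5 => (⟨f ^ (i : ℕ) • p, hpS i⟩ : S)) := by
      intro i j e
      have e' : f ^ (i : ℕ) • p = f ^ (j : ℕ) • p := congrArg Subtype.val e
      have h1 : ∀ {a b : ℕ}, a ≤ b → f ^ a • p = f ^ b • p → 5 ∣ b - a := fun {a b} hab e0 => hper _ (by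
        rw [show b = a + (b - a) by omega, pow_add, mul_smul] at e0
        exact (smul_left_cancel _ e0).symm)
      refine Fin.ext ?_
      rcases le_total (i : ℕ) j with hij | hij
      · obtain ⟨k, hk⟩ := h1 hij e'
        have := i.isLt; have := j.isLt; omega
      · obtain ⟨k, hk⟩ := h1 hij e'.symm
        have := i.isLt; have := j.isLt; omega
    have h2 := Nat.card_le_card_of_injective _ hinj
    rw [Nat.card_eq_fintype_card (α := Fin 5), Fintype.card_fin, Nat.card_coe_set_eq] at h2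
    omega
  have hout : ∀ p, p ∉ fixSet H r → f • p = p := fun p hp => hfour (fixSet H r)ᶜ (by
      rw [Set.ncard_compl, T.card_fix h hr hr1 hrt, card_points h T hO hr hr1 hrt hc hc1 hct hs])
    (fun q hq hfq => hq ((T.fixSet_N h hr hr1 hrt hfN).mpr hfq)) p hp
  refine ⟨f, fun e => ?_, hout⟩
  have hall : ∀ p : X ⧸ H, f • p = p := fun p => by
    by_cases hp : p ∈ fixSet H r
    · by_cases hp0 : p = base H
      · rw [hp0, e]
      · refine hfour (fixSet H r \ {base H}) (by
          rw [Set.ncard_sdiff_singleton_of_mem (T.base_mem h hr), T.card_fix h hr hr1 hrt])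
          (fun q hq => ⟨(T.fixSet_N h hr hr1 hrt hfN).mp hq.1, fun e' => hq.2 (Set.mem_singleton_iff.mpr
            (smul_left_cancel f ((Set.mem_singleton_iff.mp e').trans e.symm)))⟩) p ⟨hp, hp0⟩
    · exact hout p hp
  rcases core_trivial h T hO hall with e' | e'
  · exact hf1 e'
  · rw [e', show (5 : ℕ) = 2 * 2 + 1 from rfl, pow_succ, pow_mul, pow_two t, h.inv.2, one_pow, one_mul] at hf5
    exact h.inv.1 hf5

/-- The image contains a three cycle. -/
theorem exists_three [DecidableEq (X ⧸ H)] [Fintype (X ⧸ H)] :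
    ∃ σ : Equiv.Perm (X ⧸ H), σ.IsThreeCycle ∧ σ ∈ (toPermHom X (X ⧸ H)).range := by
  obtain ⟨f, hf0, hf⟩ := exists_five h T hO hr hr1 hrt hc hc1 hct hs
  obtain ⟨g, hgP, hgR, -⟩ := T.swap
  have hg0 : g • base H = base H := fix_base.mpr (h.P_le hgP)
  have hgr : g * r * g⁻¹ ∈ C := (hgR r).mp hr
  have hline : fixSet H (g * r * g⁻¹) = fixSet H c :=
    T.fixC_eq h hgr (fun e => hr1 (conj_eq_one_iff.mp e)) (h.ne_conj hrt g) hc hc1 hct
  set f' := g * f * g⁻¹
  have hf' : ∀ p, p ∉ fixSet H c → f' • p = p := fun p hp => by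
    rw [mul_smul, mul_smul, hf _ (fun h1 => hp (by rw [← hline, fixSet_conj]; exact h1)), smul_inv_smul]
  have hf'0 : f' • base H ≠ base H := fun e => hf0 (by
    rw [mul_smul, mul_smul, inv_smul_eq_iff.mpr hg0.symm] at e
    exact smul_left_cancel g (e.trans hg0.symm))
  refine ⟨Equiv.swap (base H) (f' • base H) * Equiv.swap (base H) (f • base H), ?_, ⟨f * f' * f⁻¹ * f'⁻¹, by
    rw [map_mul, map_mul, map_mul, map_inv, map_inv]
    exact commutator_eq (A := fixSet H r) (B := fixSet H c) (o := base H) (fun p hp => hf p hp)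
      (fun p hp => hf' p hp) (fun p hp hp' => inter h T hr hr1 hrt hc hc1 hct hp hp') (T.base_mem h hr)
      (fix_base.mpr (T.C_mem_H h hc)) hf0 hf'0⟩⟩
  refine Equiv.Perm.isThreeCycle_swap_mul_swap_same (fun e => hf'0 e.symm) (fun e => hf0 e.symm) fun e => hf0 ?_
  show f • base H = base H
  have e' : f' • base H = f • base H := e
  refine inter h T hr hr1 hrt hc hc1 hct ?_ ?_
  · by_contra h1
    exact h1 (by rw [smul_left_cancel f (hf _ h1)]; exact T.base_mem h hr)
  · rw [← e']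
    by_contra h1
    exact h1 (by rw [smul_left_cancel f' (hf' _ h1)]; exact fix_base.mpr (T.C_mem_H h hc))

/-- The image is doubly transitive. -/
theorem two_transitive : IsMultiplyPretransitive ↥(toPermHom X (X ⧸ H)).range (X ⧸ H) 2 := by
  classical
  obtain ⟨g, hgP, hgR, -⟩ := T.swap
  have hg0 : g • base H = base H := fix_base.mpr (h.P_le hgP)
  have hline : fixSet H (g * r * g⁻¹) = fixSet H c :=
    T.fixC_eq h ((hgR r).mp hr) (fun e => hr1 (conj_eq_one_iff.mp e)) (h.ne_conj hrt g) hc hc1 hct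
  obtain ⟨d, hd, hd0⟩ : ∃ d ∈ fixSet H r, d ≠ base H := by
    by_contra hall
    push Not at hall
    have h2 := Set.ncard_le_ncard (show fixSet H r ⊆ {base H} from fun p hp => hall p hp) (Set.toFinite _)
    rw [T.card_fix h hr hr1 hrt, Set.ncard_singleton] at h2
    omega
  have hgd : g • d ∈ fixSet H c := by rw [← hline, fixSet_conj, inv_smul_smul]; exact hd
  have hgd0 : g • d ≠ base H := fun e => hd0 (smul_left_cancel g (e.trans hg0.symm))
  -- the stabiliser of the base moves `d` everywhere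
  have hone : ∀ p, p ≠ base H → ∃ k : X, k • base H = base H ∧ k • d = p := by
    intro p hp
    rcases nine_cover h T hO hr hr1 hrt hc hc1 hct hs p with hp' | hp'
    · obtain ⟨x, hx, e⟩ := reg_C h T hr hr1 hrt hc hc1 hct hd hd0 hp' hp
      exact ⟨x, fix_base.mpr (T.C_mem_H h hx), e⟩
    · obtain ⟨x, hx, e⟩ := reg_R h T hr hr1 hrt hc hc1 hct hgd hgd0 hp' hp
      exact ⟨x * g, by rw [mul_smul, hg0, fix_base.mpr (T.R_mem_H h hx)], by rw [mul_smul, e]⟩
  have hto : ∀ a b : X ⧸ H, a ≠ b → ∃ k : X, k • base H = a ∧ k • d = b := by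
    intro a b hab
    obtain ⟨x, rfl⟩ := QuotientGroup.mk_surjective a
    have hx : x • base H = ((x : X) : X ⧸ H) := by show (((x * 1 : X)) : X ⧸ H) = _; rw [mul_one]
    obtain ⟨k, hk0, hkd⟩ := hone (x⁻¹ • b) fun e => hab (by
      rw [← hx, ← smul_inv_smul x b, e])
    exact ⟨x * k, by rw [mul_smul, hk0, hx], by rw [mul_smul, hkd, smul_inv_smul]⟩
  rw [MulAction.is_two_pretransitive_iff]
  intro a b a' b' hab hab'
  obtain ⟨k, hk1, hk2⟩ := hto a b hab
  obtain ⟨k', hk1', hk2'⟩ := hto a' b' hab'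
  refine ⟨⟨toPermHom X (X ⧸ H) (k' * k⁻¹), ⟨_, rfl⟩⟩, ?_, ?_⟩
  · show (k' * k⁻¹) • a = a'
    rw [mul_smul, ← hk1, inv_smul_smul, hk1']
  · show (k' * k⁻¹) • b = b'
    rw [mul_smul, ← hk2, inv_smul_smul, hk2']

/-- An element of square one with at least two fixed points is `1` or `t`. -/
theorem eq_of_two_fixed {x : X} (hx : x * x = 1) {p q : X ⧸ H} (hpq : p ≠ q) (hp : x • p = p) (hq : x • q = q) :
    x = 1 ∨ x = t := by
  by_contra hno
  push Not at hno
  exact hpq (h.eq_of_fix ⟨hno.1, hx⟩ hno.2 hp hq)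

/-- `X` is the nonsplit double cover of `A_9`. -/
theorem cover_nine : IsNonsplitDoubleCover X (alternatingGroup (Fin 9)) := by
  classical
  haveI : Fact (Nat.Prime 2) := ⟨Nat.prime_two⟩
  letI := Fintype.ofFinite (X ⧸ H)
  have h9 := card_points h T hO hr hr1 hrt hc hc1 hct hs
  have hF9 : Fintype.card (X ⧸ H) = 9 := by rw [← Nat.card_eq_fintype_card, h9]
  set π := toPermHom X (X ⧸ H) with hπ
  have hπ' : ∀ (x : X) (p : X ⧸ H), π x p = x • p := fun _ _ => rfl
  have hker : ∀ x : X, π x = 1 → x = 1 ∨ x = t := fun x hx =>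
    core_trivial h T hO fun p => by rw [← hπ', hx, Equiv.Perm.one_apply]
  have hkt : π t = 1 := Equiv.ext fun p => h.t_fix p
  obtain ⟨σ, hσ, hσr⟩ := exists_three h T hO hr hr1 hrt hc hc1 hct hs
  have hA : alternatingGroup (X ⧸ H) ≤ π.range :=
    Equiv.Perm.alternatingGroup_le_of_isPreprimitive_of_isThreeCycle_mem
      (isPreprimitive_of_is_two_pretransitive (two_transitive h T hO hr hr1 hrt hc hc1 hct hs)) hσ hσr
  obtain ⟨e⟩ : Nonempty (X ⧸ H ≃ Fin 9) := ⟨Fintype.equivFinOfCardEq hF9⟩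
  have hpt : ∀ i j : Fin 9, i ≠ j → e.symm i ≠ e.symm j := fun i j hij he => hij (e.symm.injective he)
  let sw : Fin 9 → Fin 9 → Equiv.Perm (X ⧸ H) := fun i j => Equiv.swap (e.symm i) (e.symm j)
  have hsw : ∀ i j k : Fin 9, k ≠ i → k ≠ j → sw i j (e.symm k) = e.symm k := fun i j k h1 h2 =>
    Equiv.swap_apply_of_ne_of_ne (hpt k i h1) (hpt k j h2)
  -- the image is the alternating group
  have hran : π.range = alternatingGroup (X ⧸ H) := by
    refine le_antisymm (fun τ hτ => ?_) hA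
    by_contra hodd
    have hsgn : Equiv.Perm.sign τ = -1 :=
      (Int.units_eq_one_or _).resolve_left fun e' => hodd (Equiv.Perm.mem_alternatingGroup.mpr e')
    have hall : ∀ i j : Fin 9, i ≠ j → ∃ x, π x = sw i j := by
      intro i j hij
      have h1 : sw i j * τ ∈ π.range := hA (Equiv.Perm.mem_alternatingGroup.mpr (by
        rw [map_mul, Equiv.Perm.sign_swap (hpt i j hij), hsgn]; norm_num))
      have h2 := mul_mem h1 (inv_mem hτ)
      rwa [mul_inv_cancel_right] at h2
    obtain ⟨x₁, hx₁⟩ := hall 0 1 (by decide)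
    obtain ⟨x₂, hx₂⟩ := hall 2 3 (by decide)
    obtain ⟨x₃, hx₃⟩ := hall 4 5 (by decide)
    have hbad : ∀ x : X, π x ≠ 1 → π x (e.symm 7) = e.symm 7 → π x (e.symm 8) = e.symm 8 → x * x ≠ 1 := by
      intro x hne h7 h8 hxx
      rcases eq_of_two_fixed h T hO hr hr1 hrt hc hc1 hct hs hxx (hpt 7 8 (by decide)) h7 h8 with e' | e'
      · exact hne (by rw [e', map_one])
      · exact hne (by rw [e', hkt])
    have hsqt : ∀ x : X, π x * π x = 1 → π x ≠ 1 → π x (e.symm 7) = e.symm 7 → π x (e.symm 8) = e.symm 8 →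
        x * x = t := fun x h1 hne h7 h8 =>
      (hker _ (by rw [map_mul, h1])).resolve_left (hbad x hne h7 h8)
    have hne : ∀ {ρ : Equiv.Perm (X ⧸ H)} (i : Fin 9), ρ (e.symm i) ≠ e.symm i → ρ ≠ 1 := fun i hi e' => hi (by
      rw [e', Equiv.Perm.one_apply])
    have s01 : sw 0 1 (e.symm 0) = e.symm 1 := Equiv.swap_apply_left _ _
    have s23 : sw 2 3 (e.symm 2) = e.symm 3 := Equiv.swap_apply_left _ _
    have s45 : sw 4 5 (e.symm 4) = e.symm 5 := Equiv.swap_apply_left _ _
    have h11 : x₁ * x₁ = t := hsqt _ (by rw [hx₁]; exact Equiv.swap_mul_self _ _)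
      (hne 0 (by rw [hx₁, s01]; exact hpt 1 0 (by decide)))
      (by rw [hx₁, hsw 0 1 7 (by decide) (by decide)]) (by rw [hx₁, hsw 0 1 8 (by decide) (by decide)])
    have h22 : x₂ * x₂ = t := hsqt _ (by rw [hx₂]; exact Equiv.swap_mul_self _ _)
      (hne 2 (by rw [hx₂, s23]; exact hpt 3 2 (by decide)))
      (by rw [hx₂, hsw 2 3 7 (by decide) (by decide)]) (by rw [hx₂, hsw 2 3 8 (by decide) (by decide)])
    have h33 : x₃ * x₃ = t := hsqt _ (by rw [hx₃]; exact Equiv.swap_mul_self _ _)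
      (hne 4 (by rw [hx₃, s45]; exact hpt 5 4 (by decide)))
      (by rw [hx₃, hsw 4 5 7 (by decide) (by decide)]) (by rw [hx₃, hsw 4 5 8 (by decide) (by decide)])
    have hdis : ∀ i j k l : Fin 9, k ≠ i → k ≠ j → l ≠ i → l ≠ j → sw i j * sw k l = sw k l * sw i j :=
      fun i j k l h1 h2 h3 h4 => (Equiv.Perm.Disjoint.commute fun z => by
        by_cases hz1 : z = e.symm i
        · exact Or.inr (by rw [hz1]; exact hsw k l i h1.symm h3.symm)
        by_cases hz2 : z = e.symm j
        · exact Or.inr (by rw [hz2]; exact hsw k l j h2.symm h4.symm)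
        exact Or.inl (Equiv.swap_apply_of_ne_of_ne hz1 hz2)).eq
    -- disjoint transpositions lift to anticommuting elements
    have hanti : ∀ {a b : X}, a * a = t → b * b = t → π a * π b = π b * π a → π (a * b) ≠ 1 →
        π (a * b) (e.symm 7) = e.symm 7 → π (a * b) (e.symm 8) = e.symm 8 → b * a = a * b * t := by
      intro a b ha hb hab hne' h7 h8
      have h1 : (a * b)⁻¹ * (b * a) = 1 ∨ (a * b)⁻¹ * (b * a) = t := hker _ (by
        rw [map_mul, map_inv, map_mul, map_mul, hab, inv_mul_cancel])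
      rcases h1 with e' | e'
      · refine absurd ?_ (hbad _ hne' h7 h8)
        have e2 : b * a = a * b := (inv_mul_eq_one.mp e').symm
        rw [(show Commute b a from e2).mul_mul_mul_comm, ha, hb, h.inv.2]
      · rw [← e', mul_inv_cancel_left]
    have d12 := hdis 0 1 2 3 (by decide) (by decide) (by decide) (by decide)
    have d13 := hdis 0 1 4 5 (by decide) (by decide) (by decide) (by decide)
    have d23 := hdis 2 3 4 5 (by decide) (by decide) (by decide) (by decide)
    have h12 : x₂ * x₁ = x₁ * x₂ * t := hanti h11 h22 (by rw [hx₁, hx₂, d12])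
      (hne 0 (by rw [map_mul, hx₁, hx₂, Equiv.Perm.mul_apply, hsw 2 3 0 (by decide) (by decide), s01]
                 exact hpt 1 0 (by decide)))
      (by rw [map_mul, hx₁, hx₂, Equiv.Perm.mul_apply, hsw 2 3 7 (by decide) (by decide),
        hsw 0 1 7 (by decide) (by decide)])
      (by rw [map_mul, hx₁, hx₂, Equiv.Perm.mul_apply, hsw 2 3 8 (by decide) (by decide),
        hsw 0 1 8 (by decide) (by decide)])
    have h13 : x₃ * x₁ = x₁ * x₃ * t := hanti h11 h33 (by rw [hx₁, hx₃, d13])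
      (hne 0 (by rw [map_mul, hx₁, hx₃, Equiv.Perm.mul_apply, hsw 4 5 0 (by decide) (by decide), s01]
                 exact hpt 1 0 (by decide)))
      (by rw [map_mul, hx₁, hx₃, Equiv.Perm.mul_apply, hsw 4 5 7 (by decide) (by decide),
        hsw 0 1 7 (by decide) (by decide)])
      (by rw [map_mul, hx₁, hx₃, Equiv.Perm.mul_apply, hsw 4 5 8 (by decide) (by decide),
        hsw 0 1 8 (by decide) (by decide)])
    have h23 : x₃ * x₂ = x₂ * x₃ * t := hanti h22 h33 (by rw [hx₂, hx₃, d23])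
      (hne 2 (by rw [map_mul, hx₂, hx₃, Equiv.Perm.mul_apply, hsw 4 5 2 (by decide) (by decide), s23]
                 exact hpt 3 2 (by decide)))
      (by rw [map_mul, hx₂, hx₃, Equiv.Perm.mul_apply, hsw 4 5 7 (by decide) (by decide),
        hsw 2 3 7 (by decide) (by decide)])
      (by rw [map_mul, hx₂, hx₃, Equiv.Perm.mul_apply, hsw 4 5 8 (by decide) (by decide),
        hsw 2 3 8 (by decide) (by decide)])
    have hcomm : Commute (x₁ * x₂) x₃ := by
      show x₁ * x₂ * x₃ = x₃ * (x₁ * x₂)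
      rw [← mul_assoc, h13, mul_assoc (x₁ * x₃) t x₂, ← (h.central x₂).eq, ← mul_assoc, mul_assoc x₁ x₃ x₂, h23,
        ← mul_assoc, ← mul_assoc, mul_assoc _ t t, h.inv.2, mul_one]
    have h12' : x₁ * x₂ * (x₁ * x₂) = t :=
      calc x₁ * x₂ * (x₁ * x₂) = x₁ * (x₂ * x₁) * x₂ := by group
        _ = (x₁ * x₁) * (x₂ * t) * x₂ := by rw [h12]; group
        _ = (t * x₂) * (t * x₂) := by rw [h11]; group
        _ = (t * t) * (x₂ * x₂) := (h.central x₂).mul_mul_mul_comm _ _
        _ = t := by rw [h.inv.2, h22, one_mul]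
    refine hbad (x₁ * x₂ * x₃) ?_ ?_ ?_ ?_
    · refine hne 4 ?_
      rw [map_mul, map_mul, hx₁, hx₂, hx₃, Equiv.Perm.mul_apply, Equiv.Perm.mul_apply, s45,
        hsw 2 3 5 (by decide) (by decide), hsw 0 1 5 (by decide) (by decide)]
      exact hpt 5 4 (by decide)
    · rw [map_mul, map_mul, hx₁, hx₂, hx₃, Equiv.Perm.mul_apply, Equiv.Perm.mul_apply,
        hsw 4 5 7 (by decide) (by decide), hsw 2 3 7 (by decide) (by decide), hsw 0 1 7 (by decide) (by decide)]
    · rw [map_mul, map_mul, hx₁, hx₂, hx₃, Equiv.Perm.mul_apply, Equiv.Perm.mul_apply,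
        hsw 4 5 8 (by decide) (by decide), hsw 2 3 8 (by decide) (by decide), hsw 0 1 8 (by decide) (by decide)]
    · rw [hcomm.symm.mul_mul_mul_comm, h12', h33, h.inv.2]
  -- the centre is `<t>`
  let φ : X →* ↥(alternatingGroup (X ⧸ H)) := π.codRestrict _ fun x => hran ▸ ⟨x, rfl⟩
  have hφs : Function.Surjective φ := fun σ => by
    obtain ⟨x, hx⟩ := (hran.symm ▸ σ.2 : (σ : Equiv.Perm (X ⧸ H)) ∈ π.range)
    exact ⟨x, Subtype.ext hx⟩
  have hcen : Subgroup.center X = zpowers t := by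
    refine le_antisymm (fun z hz => ?_) (zpowers_le.mpr (Subgroup.mem_center_iff.mpr fun g => (h.central g).eq))
    have h1 : φ z ∈ Subgroup.center ↥(alternatingGroup (X ⧸ H)) := Subgroup.mem_center_iff.mpr fun g => by
      obtain ⟨g, rfl⟩ := hφs g
      rw [← map_mul, ← map_mul, Subgroup.mem_center_iff.mp hz g]
    rw [alternatingGroup.center_eq_bot (by rw [h9]; norm_num), Subgroup.mem_bot] at h1
    rcases hker z (congrArg Subtype.val h1) with e' | e' <;> rw [e']
    exacts [one_mem _, mem_zpowers t]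
  have hkerφ : φ.ker = Subgroup.center X := by
    rw [hcen]
    refine le_antisymm (fun z hz => ?_) (zpowers_le.mpr (Subtype.ext hkt))
    rcases hker z (congrArg Subtype.val hz) with e' | e' <;> rw [e']
    exacts [one_mem _, mem_zpowers t]
  refine ⟨by rw [hcen, Nat.card_zpowers, Bender.Assembly.orderOf_two h.inv], ⟨?_⟩, fun L hL => ?_⟩
  · exact (QuotientGroup.quotientMulEquivOfEq hkerφ.symm).trans
      ((QuotientGroup.quotientKerEquivOfSurjective φ hφs).trans
        (Equiv.altCongrHom e))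
  · have hd : sw 0 1 * sw 2 3 ∈ alternatingGroup (X ⧸ H) := Equiv.Perm.mem_alternatingGroup.mpr (by
      rw [map_mul, Equiv.Perm.sign_swap (hpt 0 1 (by decide)), Equiv.Perm.sign_swap (hpt 2 3 (by decide))]
      norm_num)
    obtain ⟨x, hx⟩ := hφs ⟨_, hd⟩
    obtain ⟨⟨z, l⟩, hzl, -⟩ := hL.existsUnique x
    have hzl' : (z : X) * l = x := hzl
    have hz2 : (z : X) ∈ φ.ker := hkerφ.symm ▸ z.2
    have hz1 : π (z : X) = 1 := congrArg Subtype.val (MonoidHom.mem_ker.mp hz2)
    have hl : π (l : X) = sw 0 1 * sw 2 3 := by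
      have h1 : π x = sw 0 1 * sw 2 3 := congrArg Subtype.val hx
      rw [← h1, ← hzl', map_mul, hz1, one_mul]
    have hl2 : (l : X) * l = 1 := by
      have h1 : π ((l : X) * l) = 1 := by
        rw [map_mul, hl, ← mul_assoc, mul_assoc (sw 0 1) (sw 2 3) (sw 0 1)]
        rw [show sw 2 3 * sw 0 1 = sw 0 1 * sw 2 3 from (Equiv.Perm.Disjoint.commute fun q => by
          by_cases hq1 : q = e.symm 2
          · exact Or.inr (by rw [hq1]; exact hsw 0 1 2 (by decide) (by decide))
          by_cases hq2 : q = e.symm 3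
          · exact Or.inr (by rw [hq2]; exact hsw 0 1 3 (by decide) (by decide))
          exact Or.inl (Equiv.swap_apply_of_ne_of_ne hq1 hq2)).eq]
        simp [sw, ← mul_assoc, Equiv.swap_mul_self]
      have h2 : (l : X) * l ∈ Subgroup.center X ⊓ L := ⟨hkerφ ▸ (MonoidHom.mem_ker.mpr (Subtype.ext h1)), mul_mem l.2 l.2⟩
      rwa [hL.disjoint.eq_bot, Subgroup.mem_bot] at h2
    have hfx : ∀ k : Fin 9, k = 7 ∨ k = 8 → (l : X) • e.symm k = e.symm k := by
      intro k hk
      rw [← hπ', hl, Equiv.Perm.mul_apply]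
      rcases hk with rfl | rfl <;>
        rw [hsw 2 3 _ (by decide) (by decide), hsw 0 1 _ (by decide) (by decide)]
    have h0 : π (l : X) (e.symm 0) = e.symm 1 := by
      rw [hl, Equiv.Perm.mul_apply, hsw 2 3 0 (by decide) (by decide)]
      exact Equiv.swap_apply_left _ _
    rcases eq_of_two_fixed h T hO hr hr1 hrt hc hc1 hct hs hl2 (hpt 7 8 (by decide)) (hfx 7 (Or.inl rfl))
      (hfx 8 (Or.inr rfl)) with e' | e'
    · rw [e', map_one, Equiv.Perm.one_apply] at h0
      exact hpt 0 1 (by decide) h0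
    · rw [e', hkt, Equiv.Perm.one_apply] at h0
      exact hpt 0 1 (by decide) h0

end Twin'

end CfsgLib.ProperCore
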