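import Cfsg.Agent.Lib.ProperCore.Eight
import Cfsg.Agent.Lib.ProperCore.TwinNine
import Cfsg.Agent.Lib.CoreKill.Theorem
import Cfsg.Agent.Lib.Bender.Q.Main
import Cfsg.Agent.S1169
import Cfsg.Agent.S1645

/-!
Rank at least three: there is a strongly embedded subgroup, or the Sylow subgroup is abelian with all involutions bad.

Blueprint: `blueprint/S1728.md`, 2.
-/

set_option autoImplicit false
set_option linter.unusedSectionVars false
set_option linter.style.haveILetI false

universe u

namespace CfsgLib.ProperCore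

open Cfsg Subgroup
open CfsgLib.Bender.TwoClosed (IsInv)
open CfsgLib.Bender.Assembly (orderOf_two isInv_of_orderOf)
open CfsgLib.CoreKill (zpowers_inv)
open CfsgLib.CoreKill.Local (Pairs SquaresEq Struct)

variable {G : Type u} [Group G] [Finite G]

/-- Balance at the members of `P`. -/
def MemberBal {t : G} (P : Sylow 2 ↥(centralizer ({t} : Set G))) : Prop :=
  ∀ y ∈ (P : Subgroup _), IsInv y → y ≠ inCent t → ∀ A : Subgroup ↥(centralizer ({t} : Set G)), Odd (Nat.card A) →
    A ≤ centralizer ({y} : Set _) → centralizer ({y} : Set _) ≤ normalizer (A : Set _) →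
    A ≤ oddCore ↥(centralizer ({t} : Set G))

/-- The core of a member meets `C(t)` in the core of `C(t)`. -/
theorem core_inf_le {t : G} {P : Sylow 2 ↥(centralizer ({t} : Set G))} (hb : MemberBal P)
    {v : ↥(centralizer ({t} : Set G))} (hv : v ∈ (P : Subgroup _)) (hvi : IsInv v) (hvt : v ≠ inCent t) :
    centralizerPPrimeCore 2 (v : G) ⊓ centralizer ({t} : Set G) ≤ centralizerPPrimeCore 2 t := by
  rintro w ⟨hw, hwt⟩
  let A := (centralizerPPrimeCore 2 (v : G)).subgroupOf (centralizer ({t} : Set G))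
  have h1 : A ≤ oddCore ↥(centralizer ({t} : Set G)) := hb v hv hvi hvt A
    ((CharTwoEarly.odd_core (v : G)).of_dvd_nat (by
      rw [← Subgroup.card_map_of_injective (centralizer ({t} : Set G)).subtype_injective]
      exact Subgroup.card_dvd_of_le (by rintro _ ⟨a, ha, rfl⟩; exact ha)))
    (fun a ha => Subgroup.mem_centralizer_singleton_iff.mpr (Subtype.ext (CharTwoEarly.core_comm ha)))
    (fun c hc => Comp.mem_normalizer_of_maps fun a ha => CharTwoEarly.conj_mem_core
      (congrArg Subtype.val (Subgroup.mem_centralizer_singleton_iff.mp hc)) ha)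
  exact ⟨⟨w, hwt⟩, h1 (show (⟨w, hwt⟩ : ↥(centralizer ({t} : Set G))) ∈ A from hw), rfl⟩

/-- `G` is balanced when each class of involutions has balance at the members. -/
theorem isBalanced_of_memberBal (hcov : ∀ y : G, IsInv y →
      ∃ g t : G, g * y * g⁻¹ = t ∧ ∃ P : Sylow 2 ↥(centralizer ({t} : Set G)), MemberBal P) :
    IsBalanced G := by
  have key : ∀ x y : G, IsInv x → IsInv y → x * y = y * x → x ≠ y →
      centralizerPPrimeCore 2 x ⊓ centralizer ({y} : Set G) ≤ centralizerPPrimeCore 2 y := by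
    intro x y hx hy hc hne w hw
    obtain ⟨g, t, hgt, P, hb⟩ := hcov y hy
    let x' : ↥(centralizer ({t} : Set G)) := ⟨g * x * g⁻¹, Subgroup.mem_centralizer_singleton_iff.mpr (by
      rw [← hgt]
      exact Bender.Q.conj_comm hc)⟩
    have hxi : IsInv x' := isInv_sub.mpr (hx.conj g)
    obtain ⟨c, -, hcP⟩ := Bender.Q.exists_conj_sylow (S := P) le_top (zpowers_inv hxi) le_top
    have hyh : (c : G) * g * y * ((c : G) * g)⁻¹ = t := by
      calc (c : G) * g * y * ((c : G) * g)⁻¹ = (c : G) * (g * y * g⁻¹) * (c : G)⁻¹ := by group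
        _ = t := by rw [hgt, Subgroup.mem_centralizer_singleton_iff.mp c.2, mul_inv_cancel_right]
    have hvne : c * x' * c⁻¹ ≠ inCent t := fun e => hne (by
      have e' : (c : G) * (g * x * g⁻¹) * (c : G)⁻¹ = t := congrArg Subtype.val e
      refine (MulAut.conj ((c : G) * g)).injective ?_
      rw [MulAut.conj_apply, MulAut.conj_apply, hyh]
      refine Eq.trans ?_ e'
      group)
    have h1 := core_inf_le hb (hcP x' (mem_zpowers x')) (hxi.conj c) hvne
    have hxh : ((c * x' * c⁻¹ : ↥(centralizer ({t} : Set G))) : G) = (c : G) * g * x * ((c : G) * g)⁻¹ := by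
      show (c : G) * (g * x * g⁻¹) * (c : G)⁻¹ = _
      group
    have e2 : centralizerPPrimeCore 2 t = _ :=
      (congrArg (centralizerPPrimeCore 2) hyh).symm.trans (CoreKill.core_equi ((c : G) * g) y)
    rw [hxh, CoreKill.core_equi, e2] at h1
    obtain ⟨w', hw', e⟩ := h1 (x := (c : G) * g * w * ((c : G) * g)⁻¹) ⟨⟨w, hw.1, rfl⟩,
      Subgroup.mem_centralizer_singleton_iff.mpr (by
        have h2 := Bender.Q.conj_comm (g := (c : G) * g) (Subgroup.mem_centralizer_singleton_iff.mp hw.2)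
        rwa [hyh] at h2)⟩
    exact (MulAut.conj ((c : G) * g)).injective e ▸ hw'
  intro x y hx hy hc
  by_cases hne : x = y
  · rw [hne]
  exact le_antisymm (le_inf (key x y (isInv_of_orderOf hx) (isInv_of_orderOf hy) hc hne)
      (inf_le_left.trans (CharTwoEarly.core_le x)))
    (le_inf (key y x (isInv_of_orderOf hy) (isInv_of_orderOf hx) hc.symm (Ne.symm hne))
      (inf_le_left.trans (CharTwoEarly.core_le y)))

theorem oddCore_cent_eq_bot {t : G} (h : centralizerPPrimeCore 2 t = ⊥) :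
    oddCore ↥(centralizer ({t} : Set G)) = ⊥ :=
  (Subgroup.map_eq_bot_iff_of_injective _ (centralizer ({t} : Set G)).subtype_injective).mp h

/-- The centralizer of a central involution of `S` contains `S`. -/
theorem cent_le {S : Sylow 2 G} {t : G} (htc : ∀ s ∈ (S : Subgroup G), Commute s t) :
    (S : Subgroup G) ≤ centralizer ({t} : Set G) := fun s hs =>
  Subgroup.mem_centralizer_singleton_iff.mpr (htc s hs).eq

variable [IsSimpleGroup G] (hG : ¬ IsMulCommutative G) {S : Sylow 2 G} {M : Subgroup G} (C : Core S M)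
  (h3 : ¬ PRankLE 2 2 G)
include hG C h3

/-- A good central involution gives a strongly embedded subgroup. -/
theorem exists_se_of_good {z : G} (hzS : z ∈ (S : Subgroup G)) (hz : IsInv z)
    (hzc : ∀ s ∈ (S : Subgroup G), Commute s z) (hgood : Good M z) : ∃ H : Subgroup G, IsStronglyEmbedded H := by
  refine Bender.Q.aschbacher Bender.Q.theoremQ C.ne_top (orderOf_two hz) (C.le hzS) ⟨S, hzS, hzc⟩
    (fun g hg => C.good_mem hz (C.le hzS) hgood hg) fun g hgc hgne => ?_
  by_contra hbad₀
  set z' := g * z * g⁻¹ with hz'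
  have hz'i : IsInv z' := hz.conj g
  have hz'C : z' ∈ centralizer ({z} : Set G) := Subgroup.mem_centralizer_singleton_iff.mpr hgc.eq.symm
  obtain ⟨c, hc, hcS⟩ := Bender.Q.exists_conj_sylow (cent_le hzc) (zpowers_inv hz'i) (zpowers_le.mpr hz'C)
  set w := c * z' * c⁻¹ with hw
  have hwi : IsInv w := hz'i.conj c
  have hwS : w ∈ (S : Subgroup G) := hcS z' (mem_zpowers z')
  have hwz : w ≠ z := fun e => hgne ((MulAut.conj c).injective (by
    show c * z' * c⁻¹ = c * z * c⁻¹
    rw [← hw, e, Subgroup.mem_centralizer_singleton_iff.mp hc, mul_inv_cancel_right]))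
  have hwgood : Good M w := by
    have e : w = c * g * z * (c * g)⁻¹ := by rw [hw, hz']; group
    have hwM := C.le hwS
    rw [e] at hwM ⊢
    exact C.good_conj hz (C.le hzS) hgood hwM
  have hzw : Commute z w := (hzc w hwS).symm
  set p := z * w with hp
  have hpS : p ∈ (S : Subgroup G) := mul_mem hzS hwS
  have hpi : IsInv p := ⟨fun e => hwz (by
      rw [← one_mul z, ← e, hp, mul_assoc, ← hzw.eq, ← mul_assoc, hz.2, one_mul]),
    by rw [hp, hzw.symm.mul_mul_mul_comm, hz.2, hwi.2, one_mul]⟩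
  have hpz : p ≠ z := fun e => hwi.1 (by
    rw [hp] at e
    exact mul_left_cancel (e.trans (mul_one z).symm))
  have hwp : p * z = w := by rw [hp, hzw.eq, mul_assoc, hz.2, mul_one]
  have hpbad : ¬ Good M p := fun hgd => hbad₀ (by
    have hcM : c ∈ M := hgood hc
    have e : z * z' = c⁻¹ * p * c⁻¹⁻¹ := by
      rw [hp, hw]
      calc z * z' = c⁻¹ * (c * z * c⁻¹) * c * z' := by group
        _ = c⁻¹ * z * c * z' := by rw [Subgroup.mem_centralizer_singleton_iff.mp hc, mul_inv_cancel_right]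
        _ = _ := by group
    show Good M (z * z')
    rw [e]
    exact C.good_conj hpi (C.le hpS) hgd (by
      rw [inv_inv]
      exact mul_mem (mul_mem (inv_mem hcM) (C.le hpS)) hcM))
  have hno : ∀ s ∈ (S : Subgroup G), s * p * s⁻¹ ≠ p * z := fun s _ e => hpbad (by
    rw [hwp] at e
    have e' : p = s⁻¹ * w * s⁻¹⁻¹ := by rw [← e]; group
    rw [e']
    exact C.good_conj hwi (C.le hwS) hwgood (e' ▸ C.le hpS))
  obtain ⟨B, hBS, hB, hB8, hzB, hpB⟩ := exists_eight_with S h3 hzS hz hzc hpS hpi hpz hno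
  obtain ⟨P, hBP, hPt⟩ := C.pt hpi (C.le hpS) hpbad hB hB8 hpB (hBS.trans C.le)
  let y : ↥(centralizer ({p} : Set G)) := ⟨z, Subgroup.mem_centralizer_singleton_iff.mpr (hzc p hpS).eq.symm⟩
  have hyP : y ∈ (P : Subgroup _) := hBP hzB
  have hyi : IsInv y := isInv_sub.mpr hz
  have hyp : y ≠ inCent p := fun e => hpz (congrArg Subtype.val e).symm
  -- the members are good
  have hmem : ∀ v : ↥(centralizer ({p} : Set G)), v ∈ (P : Subgroup _) → IsInv v → v ≠ inCent p → Good M (v : G) := by
    intro v hv hvi hvp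
    have hvM : (v : G) ∈ M := hPt.P_le hv
    rcases outcome hPt with hS | ⟨hpa, hsq⟩ | hF
    · obtain ⟨h, -, -, e | e⟩ := hS.trans y hyP v hv hyi hyp hvi hvp
      · have e' : (v : G) = (h : G) * z * (h : G)⁻¹ := congrArg Subtype.val e.symm
        rw [e'] at hvM ⊢
        exact C.good_conj hz (C.le hzS) hgood hvM
      · have e' : (v : G) = (h : G) * w * (h : G)⁻¹ := by
          have e1 : (h : G) * z * (h : G)⁻¹ = v * p := congrArg Subtype.val e
          have hhp : (h : G) * p = p * h := Subgroup.mem_centralizer_singleton_iff.mp h.2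
          calc (v : G) = v * p * p := by rw [mul_assoc, hpi.2, mul_one]
            _ = (h : G) * z * (h : G)⁻¹ * ((h : G) * p * (h : G)⁻¹) := by rw [e1, hhp, mul_inv_cancel_right]
            _ = (h : G) * (z * p) * (h : G)⁻¹ := by group
            _ = _ := by rw [(hzc p hpS).eq.symm, hwp]
        rw [e'] at hvM ⊢
        exact C.good_conj hwi (C.le hwS) hwgood hvM
    · exact (false_of_pairs hG hpi P hpa hsq).elim
    · obtain ⟨g, e⟩ := hF.wide.oneClass y v hyi hyp hvi hvp
      have e' : (v : G) = (g : G) * z * (g : G)⁻¹ := congrArg Subtype.val e.symm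
      rw [e'] at hvM ⊢
      exact C.good_conj hz (C.le hzS) hgood hvM
  obtain ⟨k, v, hv, hvi, hvp, e⟩ := exists_member_conj hG hpi P
  have e' : p = k⁻¹ * (v : G) * k⁻¹⁻¹ := by rw [e]; group
  refine hpbad ?_
  rw [e']
  exact C.good_conj (isInv_sub.mp hvi) (hPt.P_le hv) (hmem v hv hvi hvp) (e' ▸ C.le hpS)

section Central

variable {t : G} (ht : IsInv t) (htS : t ∈ (S : Subgroup G)) (htc : ∀ s ∈ (S : Subgroup G), Commute s t)
  (hbad : ¬ Good M t)
include ht htS htc hbad

/-- The local setting at a bad central involution, with `S` as Sylow subgroup. -/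
theorem pt_central :
    CoreKill.Local.Pt (M.subgroupOf (centralizer ({t} : Set G))) (S.subtype (cent_le htc)) (inCent t) := by
  obtain ⟨E, hES, hE, hE8⟩ := CoreKill.exists_eight_in S h3
  have hB := TwoLocalSignalizer.ea_sup hE (CoreKill.ea_zpowers ht.2) fun x hx y hy => by
    obtain ⟨i, rfl⟩ := mem_zpowers_iff.mp hy
    exact ((htc x (hES hx)).zpow_right i).eq
  have hBS : E ⊔ zpowers t ≤ (S : Subgroup G) := sup_le hES (zpowers_le.mpr htS)
  obtain ⟨u, hu, hut⟩ := SetLike.not_le_iff_exists.mp (show ¬ E ≤ zpowers t from fun h => by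
    have := Subgroup.card_le_of_le h
    rw [Nat.card_zpowers, orderOf_two ht] at this
    omega)
  have hui : IsInv u := ⟨fun e => hut (e ▸ one_mem _), by rw [← pow_two]; exact hE.2 u hu⟩
  refine ⟨C.pt0 ht (C.le htS) hbad (S.subtype (cent_le htc)) (u := ⟨u, cent_le htc (hES hu)⟩) (hES hu)
      (C.le (hES hu)) (isInv_sub.mpr hui) (fun e => hut ?_),
    (E ⊔ zpowers t).subgroupOf _, fun x hx => hBS hx,
    SolvSF.ea_of_comm (fun a ha b hb => Subtype.ext (Signalizer.ea_comm hB ha hb))
      (fun a ha => Subtype.ext (hB.2 _ ha)), ?_⟩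
  · rw [show u = t from congrArg Subtype.val e]
    exact mem_zpowers t
  · rw [Nat.card_congr (Subgroup.subgroupOfEquivOfLe (hBS.trans (cent_le htc))).toEquiv]
    exact hE8.trans (Subgroup.card_le_of_le le_sup_left)

/-- The twin outcome does not occur at a central involution. -/
theorem false_of_full
    (hF : Full (M.subgroupOf (centralizer ({t} : Set G))) (S.subtype (cent_le htc)) (inCent t)) : False := by
  have hPt := pt_central hG C h3 ht htS htc hbad
  obtain ⟨k, v₀, hv₀, hv₀i, hv₀t, e₀⟩ := exists_member_conj hG ht (S.subtype (cent_le htc))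
  -- one class of involutions
  have hall : ∀ y : G, IsInv y → ∃ g : G, g * y * g⁻¹ = t := by
    intro y hy
    obtain ⟨c, -, hc⟩ := Bender.Q.exists_conj_sylow (S := S) le_top (zpowers_inv hy) le_top
    by_cases hyt : c * y * c⁻¹ = t
    · exact ⟨c, hyt⟩
    obtain ⟨g, hg⟩ := hF.wide.oneClass ⟨c * y * c⁻¹, cent_le htc (hc y (mem_zpowers y))⟩ v₀
      (isInv_sub.mpr (hy.conj c)) (fun e => hyt (congrArg Subtype.val e)) hv₀i hv₀t
    have hg' : (g : G) * (c * y * c⁻¹) * (g : G)⁻¹ = k * t * k⁻¹ := (congrArg Subtype.val hg).trans e₀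
    refine ⟨k⁻¹ * g * c, ?_⟩
    calc k⁻¹ * g * c * y * (k⁻¹ * g * c)⁻¹ = k⁻¹ * ((g : G) * (c * y * c⁻¹) * (g : G)⁻¹) * k := by group
      _ = t := by rw [hg']; group
  have hbal : IsBalanced G := isBalanced_of_memberBal fun y hy => by
    obtain ⟨g, hg⟩ := hall y hy
    exact ⟨g, t, hg, _, hF.wide.bal⟩
  have hconn : IsFourConnected ↥(S : Subgroup G) := by
    obtain ⟨B, hBP, hB, hB8⟩ := hPt.eight
    refine CoreKill.isFourConnected_of_equiv (Subgroup.subgroupOfEquivOfLe (cent_le htc)) ?_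
    show IsFourConnected ↥(S.subtype (cent_le htc) : Subgroup ↥(centralizer ({t} : Set G)))
    have hBe : IsElementaryAbelian 2 (B.subgroupOf (S.subtype (cent_le htc) : Subgroup _)) :=
      SolvSF.ea_of_comm (fun a ha b hb => Subtype.ext (Signalizer.ea_comm hB ha hb))
        fun a ha => Subtype.ext (hB.2 _ ha)
    have hB8e : 8 ≤ Nat.card (B.subgroupOf (S.subtype (cent_le htc) : Subgroup _)) :=
      hB8.trans (le_of_eq (Nat.card_congr (Subgroup.subgroupOfEquivOfLe hBP).toEquiv).symm)
    refine CoreKill.isFourConnected_of_central (S.subtype (cent_le htc)).isPGroup'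
      (z := ⟨inCent t, htS⟩) (isInv_sub.mpr (isInv_sub.mpr ht)) (fun s => Subtype.ext (inCent_comm s.1)) hBe hB8e
      fun v hv hvz => ?_
    obtain ⟨B', hBP', hB', hB8', htB, hvB⟩ := hF.eightOver v.1 v.2 (isInv_sub.mp hv)
      (fun e => hvz (Subtype.ext e))
    exact ⟨B'.subgroupOf _, SolvSF.ea_of_comm (fun a ha b hb => Subtype.ext (Signalizer.ea_comm hB' ha hb))
      (fun a ha => Subtype.ext (hB'.2 _ ha)),
      hB8'.trans (le_of_eq (Nat.card_congr (Subgroup.subgroupOfEquivOfLe hBP').toEquiv).symm), htB, hvB⟩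
  have hO : oddCore ↥(centralizer ({t} : Set G)) = ⊥ := oddCore_cent_eq_bot
    (CoreKill.s1291 CoreKill.ck hbal (CoreKill.oddCore_eq_bot_of_simple hG) h3 (Or.inr ⟨S, hconn⟩) (orderOf_two ht))
  obtain ⟨R, D, T, hperm⟩ := hF.twin
  obtain ⟨r, hr, c, hc, hr1, hrt, hc1, hct, -, -⟩ := CoreKill.Local.Twin.exists_rc hPt T
  by_cases hs : Twin'.Shared (M.subgroupOf (centralizer ({t} : Set G))) r c
  · rcases Cfsg.Agent.S1645.result (G := G) 9 (by norm_num) t (orderOf_two ht)
      (Twin'.cover_nine hPt T hO hr hr1 hrt hc hc1 hct hs) with e | e <;> omega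
  · exact false_of_pairs hG ht _ (Twin'.pairs hPt T hO hperm hr hr1 hrt hc hc1 hct hs)
      (Twin'.squaresEq hPt T hO hperm hr hr1 hrt hc hc1 hct hs)

/-- At a bad central involution the structure without failure holds. -/
theorem struct_central :
    Struct (M.subgroupOf (centralizer ({t} : Set G))) (S.subtype (cent_le htc)) (inCent t) := by
  rcases outcome (pt_central hG C h3 ht htS htc hbad) with h | ⟨hp, hsq⟩ | hF
  · exact h
  · exact (false_of_pairs hG ht _ hp hsq).elim
  · exact (false_of_full hG C h3 ht htS htc hbad hF).elim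

end Central

/-- Rank at least three: a strongly embedded subgroup, or an abelian Sylow subgroup whose involutions are bad. -/
theorem high_rank : (∃ H : Subgroup G, IsStronglyEmbedded H) ∨
    (IsMulCommutative (S : Subgroup G) ∧ ∀ t ∈ (S : Subgroup G), IsInv t → ¬ Good M t) := by
  haveI : Fact (Nat.Prime 2) := ⟨Nat.prime_two⟩
  by_cases hg : ∃ z ∈ (S : Subgroup G), IsInv z ∧ (∀ s ∈ (S : Subgroup G), Commute s z) ∧ Good M z
  · obtain ⟨z, h1, h2, h4, h5⟩ := hg
    exact Or.inl (exists_se_of_good hG C h3 h1 h2 h4 h5)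
  push Not at hg
  obtain ⟨x, hxS, -, -, hxi, -, -, -⟩ := C.pair
  obtain ⟨t, htS, ht, htc⟩ := Comp.exists_central_in_normal (p := 2) S.isPGroup' le_rfl Subgroup.le_normalizer
    fun e => hxi.1 (Subgroup.mem_bot.mp (e ▸ hxS))
  have ht' := isInv_of_orderOf ht
  have hS := struct_central hG C h3 ht' htS htc (hg t htS ht' htc)
  let A : Subgroup G :=
    { carrier := {a | a ∈ (S : Subgroup G) ∧ a * a = 1}
      one_mem' := ⟨one_mem _, one_mul _⟩
      mul_mem' := fun {a b} ha hb => ⟨mul_mem ha.1 hb.1, by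
        by_cases ha1 : a = 1
        · rw [ha1, one_mul]; exact hb.2
        by_cases hb1 : b = 1
        · rw [hb1, mul_one]; exact ha.2
        have hab : Commute a b := congrArg Subtype.val (hS.comm ⟨a, cent_le htc ha.1⟩ ha.1 ⟨b, cent_le htc hb.1⟩ hb.1
          (isInv_sub.mpr ⟨ha1, ha.2⟩) (isInv_sub.mpr ⟨hb1, hb.2⟩)).eq
        rw [hab.symm.mul_mul_mul_comm, ha.2, hb.2, one_mul]⟩
      inv_mem' := fun {a} ha => ⟨inv_mem ha.1, by rw [← mul_inv_rev, ha.2, inv_one]⟩ }
  have hAc : IsMulCommutative A := ⟨⟨fun a b => Subtype.ext (by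
    by_cases ha1 : (a : G) = 1
    · show (a : G) * b = b * a
      rw [ha1, one_mul, mul_one]
    by_cases hb1 : (b : G) = 1
    · show (a : G) * b = b * a
      rw [hb1, one_mul, mul_one]
    show (a : G) * b = b * a
    exact congrArg Subtype.val (hS.comm ⟨a, cent_le htc a.2.1⟩ a.2.1 ⟨b, cent_le htc b.2.1⟩ b.2.1
      (isInv_sub.mpr ⟨ha1, a.2.2⟩) (isInv_sub.mpr ⟨hb1, b.2.2⟩)).eq)⟩⟩
  rcases Cfsg.Agent.S1169.result S A (fun e => ht'.1 (Subgroup.mem_bot.mp (e ▸ (⟨htS, ht'.2⟩ : t ∈ A)))) hAc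
      ⟨fun a ha => ha.1, fun a ha g hgs => ⟨hgs, by
        rw [show g * a * g⁻¹ * (g * a * g⁻¹) = g * (a * a) * g⁻¹ by group, ha.2]; group⟩⟩ with h | h
  · exact Or.inr ⟨h, fun z hzS hz => hg z hzS hz fun s hs =>
      congrArg Subtype.val (mul_comm' (⟨s, hs⟩ : (S : Subgroup G)) ⟨z, hzS⟩)⟩
  · exact Or.inl h

end CfsgLib.ProperCore
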