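import Cfsg.Agent.Lib.ProperCore.Basic

/-!
The pull back of a proper core along a surjection: it holds two commuting involution images and every element moving
them into it.

Blueprint: `blueprint/S1728.md`, 3.
-/

set_option autoImplicit false
set_option linter.unusedSectionVars false
set_option linter.style.haveILetI false

universe u v

namespace CfsgLib.ProperCore

open Cfsg Subgroup
open CfsgLib.Bender.TwoClosed (IsInv)
open CfsgLib.CoreKill (pair_group)

/-- A proper subgroup controlling the pairs in it whose images under `π` are commuting involutions. -/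
structure Ctrl {Γ : Type v} {G : Type u} [Group Γ] [Group G] (π : Γ →* G) (N : Subgroup Γ) (x y : Γ) : Prop where
  ne_top : N ≠ ⊤
  x_mem : x ∈ N
  y_mem : y ∈ N
  move : ∀ a ∈ N, ∀ b ∈ N, IsInv (π a) → IsInv (π b) → π a ≠ π b → Commute (π a) (π b) →
    ∀ g : Γ, g * a * g⁻¹ ∈ N → g * b * g⁻¹ ∈ N → g ∈ N

/-- The pull back of the core, after a conjugation, around a given pair. -/
theorem Core.exists_ctrl {G : Type u} [Group G] [Finite G] {S : Sylow 2 G} {M : Subgroup G} (C : Core S M)
    {Γ : Type v} [Group Γ] {π : Γ →* G} (hπ : Function.Surjective π) {x y : Γ} (hx : IsInv (π x))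
    (hy : IsInv (π y)) (hne : π x ≠ π y) (hc : Commute (π x) (π y)) :
    ∃ N : Subgroup Γ, Ctrl π N x y := by
  haveI : Fact (Nat.Prime 2) := ⟨Nat.prime_two⟩
  obtain ⟨U, -, -, hU, hxU, hyU, -⟩ := pair_group hx hy hne hc
  obtain ⟨k, -, hk⟩ := Bender.Q.exists_conj_sylow (S := S) le_top hU le_top
  let f : Γ →* G := (MulAut.conj k).toMonoidHom.comp π
  have hf : ∀ a : Γ, f a = k * π a * k⁻¹ := fun a => rfl
  refine ⟨M.comap f, ⟨fun e => C.ne_top ?_, C.le (hk _ hxU), C.le (hk _ hyU),
    fun a ha b hb hai hbi hab hcab g hga hgb => ?_⟩⟩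
  · refine eq_top_iff.mpr fun m _ => ?_
    obtain ⟨a, ha⟩ := ((MulAut.conj k).surjective.comp hπ) m
    exact ha ▸ (e.ge (mem_top a) : f a ∈ M)
  · have hga' : f g * f a * (f g)⁻¹ ∈ M := by
      rw [← map_inv, ← map_mul, ← map_mul]; exact hga
    have hgb' : f g * f b * (f g)⁻¹ ∈ M := by
      rw [← map_inv, ← map_mul, ← map_mul]; exact hgb
    exact C.mem_of_pair (hai.conj k) (hbi.conj k) (fun e => hab ((MulAut.conj k).injective e))
      (hcab.map (MulAut.conj k).toMonoidHom) ha hb hga' hgb'

end CfsgLib.ProperCore
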