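import Cfsg.Agent.Lib.ProperCore.Lift
import Cfsg.Agent.Lib.StSL.Presentation

/-!
`L₃(q)`, `q` odd, has no proper core: a controlling subgroup of `SL₃` holds the diagonal and monomial elements and the
rotation `g` of the plane of the first two coordinates, so a transvection, so everything.

Blueprint: `blueprint/S1728.md`, 3.
-/

set_option autoImplicit false
set_option linter.unusedSectionVars false
set_option linter.unusedSimpArgs false
set_option linter.flexible false

universe u

namespace CfsgLib.ProperCore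

open Cfsg Subgroup Matrix
open CfsgLib.Bender.TwoClosed (IsInv)

namespace LinThree

variable {F : Type} [Field F]

local notation "SL3" => Matrix.SpecialLinearGroup (Fin 3) F

/-- A diagonal element. -/
def dia (a b : Fˣ) : SL3 :=
  ⟨!![(a : F), 0, 0; 0, (b : F), 0; 0, 0, ((a * b)⁻¹ : Fˣ)], by
    rw [Matrix.det_fin_three]; simp; field_simp⟩

/-- The cyclic permutation of the axes. -/
def cyc : SL3 := ⟨!![0, 0, 1; 1, 0, 0; 0, 1, 0], by rw [Matrix.det_fin_three]; simp⟩

/-- The exchange of the first two axes. -/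
def swp : SL3 := ⟨!![0, 1, 0; 1, 0, 0; 0, 0, -1], by rw [Matrix.det_fin_three]; simp⟩

theorem dia_coe (a b : Fˣ) : (dia a b : Matrix (Fin 3) (Fin 3) F) =
    !![(a : F), 0, 0; 0, (b : F), 0; 0, 0, ((a * b)⁻¹ : Fˣ)] := rfl

theorem cyc_coe : ((cyc : SL3) : Matrix (Fin 3) (Fin 3) F) = !![0, 0, 1; 1, 0, 0; 0, 1, 0] := rfl

theorem swp_coe : ((swp : SL3) : Matrix (Fin 3) (Fin 3) F) = !![0, 1, 0; 1, 0, 0; 0, 0, -1] := rfl

theorem map_dia {K : Type} [Field K] (f : K →+* F) (a b : Kˣ) :
    Matrix.SpecialLinearGroup.map f (dia a b) = dia (Units.map f.toMonoidHom a) (Units.map f.toMonoidHom b) :=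
  Subtype.ext (by
    ext i j
    show f (((dia a b)).1 i j) = _
    fin_cases i <;> fin_cases j <;> simp [dia, map_inv₀])

theorem map_cyc {K : Type} [Field K] (f : K →+* F) :
    Matrix.SpecialLinearGroup.map f (cyc : Matrix.SpecialLinearGroup (Fin 3) K) = cyc :=
  Subtype.ext (by
    ext i j
    show f (((cyc : Matrix.SpecialLinearGroup (Fin 3) K)).1 i j) = _
    fin_cases i <;> fin_cases j <;> simp [cyc])

theorem map_swp {K : Type} [Field K] (f : K →+* F) :
    Matrix.SpecialLinearGroup.map f (swp : Matrix.SpecialLinearGroup (Fin 3) K) = swp :=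
  Subtype.ext (by
    ext i j
    show f (((swp : Matrix.SpecialLinearGroup (Fin 3) K)).1 i j) = _
    fin_cases i <;> fin_cases j <;> simp [swp])

section Two

variable (h2 : (2 : F) ≠ 0)
include h2

/-- The rotation of the first plane. -/
def rot : SL3 := ⟨!![1, 1, 0; 1, -1, 0; 0, 0, -2⁻¹], by
  rw [Matrix.det_fin_three]; simp; field_simp; ring⟩

theorem rot_coe : ((rot h2 : SL3) : Matrix (Fin 3) (Fin 3) F) = !![1, 1, 0; 1, -1, 0; 0, 0, -2⁻¹] := rfl

omit h2 in
theorem map_rot {K : Type} [Field K] (f : K →+* F) (h2K : (2 : K) ≠ 0) (h2' : (2 : F) ≠ 0) :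
    Matrix.SpecialLinearGroup.map f (rot h2K) = rot h2' :=
  Subtype.ext (by
    ext i j
    show f (((rot h2K)).1 i j) = _
    fin_cases i <;> fin_cases j <;> simp [rot, map_inv₀, map_ofNat])

omit h2 in
theorem dia_mul (a b c d : Fˣ) : dia a b * dia c d = dia (a * c) (b * d) := by
  refine Subtype.ext ?_
  simp only [Matrix.SpecialLinearGroup.coe_mul, dia_coe]
  ext i j
  fin_cases i <;> fin_cases j <;> simp [Matrix.mul_apply, Fin.sum_univ_three] <;> ring

end Two

section Words

theorem fact_five : Fact (Nat.Prime 5) := ⟨by norm_num⟩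

attribute [local instance] fact_five

theorem two_ne_three : (2 : ZMod 3) ≠ 0 := by decide

theorem two_ne_five : (2 : ZMod 5) ≠ 0 := by decide

theorem three_ne_five : (3 : ZMod 5) ≠ 0 := by decide

/-- A word over three elements. -/
def word3 (h : (2 : ZMod 3) ≠ 0) : Matrix.SpecialLinearGroup (Fin 3) (ZMod 3) :=
  cyc * cyc * (dia 1 (-1) * rot h * cyc * rot h * cyc * rot h * dia (-1) 1 * cyc * rot h * cyc * rot h * cyc * rot h *
    cyc * rot h * cyc * rot h) * cyc

/-- A word over five elements. -/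
def word5 (h : (2 : ZMod 5) ≠ 0) : Matrix.SpecialLinearGroup (Fin 3) (ZMod 5) :=
  swp * (cyc * cyc * (dia 1 (-1) * rot h * cyc * rot h * dia (-1) (Units.mk0 2 two_ne_five) * cyc * rot h * cyc *
    rot h * dia (-Units.mk0 2 two_ne_five) (-1) * cyc * rot h * cyc * rot h * cyc * rot h * cyc) * cyc) * swp

theorem word3_eq : (word3 two_ne_three : Matrix (Fin 3) (Fin 3) (ZMod 3)) = 1 + Matrix.single 0 1 2 := by
  decide +kernel

theorem word5_eq : (word5 two_ne_five : Matrix (Fin 3) (Fin 3) (ZMod 5)) = 1 + Matrix.single 0 1 3 := by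
  decide +kernel

theorem word3_mem (h : (2 : ZMod 3) ≠ 0) {N : Subgroup (Matrix.SpecialLinearGroup (Fin 3) (ZMod 3))}
    (hd : ∀ a b, dia a b ∈ N) (hc : cyc ∈ N) (hr : rot h ∈ N) : word3 h ∈ N := by
  unfold word3
  repeat' apply Subgroup.mul_mem
  all_goals first | exact hd _ _ | exact hc | exact hr

theorem word5_mem (h : (2 : ZMod 5) ≠ 0) {N : Subgroup (Matrix.SpecialLinearGroup (Fin 3) (ZMod 5))}
    (hd : ∀ a b, dia a b ∈ N) (hc : cyc ∈ N) (hw : swp ∈ N) (hr : rot h ∈ N) : word5 h ∈ N := by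
  unfold word5
  repeat' apply Subgroup.mul_mem
  all_goals first | exact hd _ _ | exact hc | exact hw | exact hr

end Words

variable (h2 : (2 : F) ≠ 0)
include h2

/-- Check an equation of `3 × 3` matrices entrywise. -/
local macro "mat3" : tactic => `(tactic| (
  refine Subtype.ext ?_
  simp only [Matrix.SpecialLinearGroup.coe_mul, Matrix.SpecialLinearGroup.coe_one,
    Matrix.SpecialLinearGroup.transvection_coe, dia_coe, cyc_coe, swp_coe, rot_coe]
  ext i j
  fin_cases i <;> fin_cases j <;>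
    simp [Matrix.mul_apply, Fin.sum_univ_three, Matrix.single, Matrix.one_apply] <;> field_simp))

set_option maxHeartbeats 2000000 in
/-- `L₃(q)` has no proper core. -/
theorem not_core [Fintype F] {G : Type u} [Group G] [Finite G] {S : Sylow 2 G} {M : Subgroup G} (C : Core S M)
    {π : SL3 →* G} (hπ : Function.Surjective π) (hker : ∀ a, π a = 1 → a ∈ center SL3) : False := by
  classical
  have hne2 : (1 : F) ≠ -1 := fun e => h2 (by linear_combination e)
  set x : SL3 := dia (-1) (-1) with hx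
  set y : SL3 := dia 1 (-1) with hy
  have hxy : x * y = dia (-1) 1 := by rw [hx, hy, dia_mul]; simp
  have hdne : ∀ a b : Fˣ, a ≠ b → π (dia a b) ≠ 1 := fun a b hab e => hab (Units.ext (by
    have h1 := congrFun (congrFun (congrArg Subtype.val (Subgroup.mem_center_iff.mp (hker _ e) swp)) 0) 1
    simpa [Matrix.SpecialLinearGroup.coe_mul, dia_coe, swp_coe, Matrix.mul_apply, Fin.sum_univ_three] using h1.symm))
  have hxne : π x ≠ 1 := fun e => hne2 (by
    have h1 := congrFun (congrFun (congrArg Subtype.val (Subgroup.mem_center_iff.mp (hker _ e) cyc)) 0) 2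
    simp [hx, Matrix.SpecialLinearGroup.coe_mul, dia_coe, cyc_coe, Matrix.mul_apply, Fin.sum_univ_three] at h1
    first | exact h1 | exact h1.symm)
  have hxi : IsInv (π x) := ⟨hxne, by rw [← map_mul, hx, dia_mul]; simp [show dia (1 : Fˣ) 1 = 1 by
    mat3]⟩
  have hu1 : (1 : Fˣ) ≠ -1 := fun e => hne2 (by simpa using congrArg Units.val e)
  have hd1 : dia (1 : Fˣ) 1 = 1 := by mat3
  have hyi : IsInv (π y) := ⟨hdne _ _ hu1, by rw [← map_mul, hy, dia_mul]; simp [hd1]⟩
  have hxye : π x ≠ π y := fun e => hdne _ _ hu1.symm (by rw [← hxy, map_mul, e, hyi.2])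
  have cm : ∀ {a b : SL3}, a * b = b * a → Commute (π a) (π b) := fun {a b} e => by
    show π a * π b = π b * π a
    rw [← map_mul, ← map_mul, e]
  obtain ⟨N, hN⟩ := C.exists_ctrl hπ hxi hyi hxye (cm (by rw [hx, hy, dia_mul, dia_mul, mul_comm (-1 : Fˣ) 1]))
  have move : ∀ g x' y' : SL3, g * x = x' * g → g * y = y' * g → x' ∈ N → y' ∈ N → g ∈ N :=
    fun g x' y' e1 e2 h1 h4 => hN.move x hN.x_mem y hN.y_mem hxi hyi hxye
      (cm (by rw [hx, hy, dia_mul, dia_mul, mul_comm (-1 : Fˣ) 1])) g
      (by rwa [mul_inv_eq_iff_eq_mul.mpr e1]) (by rwa [mul_inv_eq_iff_eq_mul.mpr e2])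
  have hdia : ∀ a b : Fˣ, dia a b ∈ N := fun a b => move _ x y
    (by rw [hx, dia_mul, dia_mul, mul_comm a, mul_comm b]) (by rw [hy, dia_mul, dia_mul, mul_comm a, mul_comm b])
    hN.x_mem hN.y_mem
  have hcyc : cyc ∈ N := move _ (dia 1 (-1)) (dia (-1) 1) (by rw [hx]; mat3)
    (by rw [hy]; mat3) (hdia _ _) (hdia _ _)
  have hswp : swp ∈ N := move _ x (dia (-1) 1) (by rw [hx]; mat3)
    (by rw [hy]; mat3) hN.x_mem (hdia _ _)
  have hrot : rot h2 ∈ N := move _ x swp (by rw [hx]; mat3)
    (by rw [hy]; mat3) hN.x_mem hswp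
  -- one transvection of the first plane gives every transvection
  suffices hone : ∃ c : F, c ≠ 0 ∧ Matrix.SpecialLinearGroup.transvection (show (0 : Fin 3) ≠ 1 by decide) c ∈ N by
    obtain ⟨c, hc, hcN⟩ := hone
    have h01 : ∀ d : F, Matrix.SpecialLinearGroup.transvection (show (0 : Fin 3) ≠ 1 by decide) d ∈ N := by
      intro d
      by_cases hd : d = 0
      · rw [hd, Matrix.SpecialLinearGroup.transvection_coeff_zero]; exact one_mem N
      let k : Fˣ := Units.mk0 (d / c) (div_ne_zero hd hc)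
      have e : dia k 1 * Matrix.SpecialLinearGroup.transvection (show (0 : Fin 3) ≠ 1 by decide) c =
          Matrix.SpecialLinearGroup.transvection (show (0 : Fin 3) ≠ 1 by decide) d * dia k 1 := by
        refine Subtype.ext ?_
        simp only [Matrix.SpecialLinearGroup.coe_mul, Matrix.SpecialLinearGroup.transvection_coe, dia_coe]
        ext i j
        fin_cases i <;> fin_cases j <;> simp [k, Matrix.mul_apply, Fin.sum_univ_three, Matrix.single, Matrix.one_apply, hc]
      rw [show Matrix.SpecialLinearGroup.transvection (show (0 : Fin 3) ≠ 1 by decide) d = _ from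
        eq_mul_inv_of_mul_eq e.symm]
      exact mul_mem (mul_mem (hdia _ _) hcN) (inv_mem (hdia _ _))
    have conj : ∀ {g a b : SL3}, g * a = b * g → g ∈ N → a ∈ N → b ∈ N := fun {g a b} e hg ha => by
      rw [eq_mul_inv_of_mul_eq e.symm]
      exact mul_mem (mul_mem hg ha) (inv_mem hg)
    have h10 : ∀ d : F, Matrix.SpecialLinearGroup.transvection (show (1 : Fin 3) ≠ 0 by decide) d ∈ N :=
      fun d => conj (a := Matrix.SpecialLinearGroup.transvection (show (0 : Fin 3) ≠ 1 by decide) d)
        (by mat3) hswp (h01 d)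
    have h12 : ∀ d : F, Matrix.SpecialLinearGroup.transvection (show (1 : Fin 3) ≠ 2 by decide) d ∈ N :=
      fun d => conj (a := Matrix.SpecialLinearGroup.transvection (show (0 : Fin 3) ≠ 1 by decide) d)
        (by mat3) hcyc (h01 d)
    have h20 : ∀ d : F, Matrix.SpecialLinearGroup.transvection (show (2 : Fin 3) ≠ 0 by decide) d ∈ N :=
      fun d => conj (a := Matrix.SpecialLinearGroup.transvection (show (1 : Fin 3) ≠ 2 by decide) d)
        (by mat3) hcyc (h12 d)
    have h21 : ∀ d : F, Matrix.SpecialLinearGroup.transvection (show (2 : Fin 3) ≠ 1 by decide) d ∈ N :=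
      fun d => conj (a := Matrix.SpecialLinearGroup.transvection (show (1 : Fin 3) ≠ 0 by decide) d)
        (by mat3) hcyc (h10 d)
    have h02 : ∀ d : F, Matrix.SpecialLinearGroup.transvection (show (0 : Fin 3) ≠ 2 by decide) d ∈ N :=
      fun d => conj (a := Matrix.SpecialLinearGroup.transvection (show (2 : Fin 3) ≠ 1 by decide) d)
        (by mat3) hcyc (h21 d)
    refine hN.ne_top (top_le_iff.mp ?_)
    rw [← CfsgLib.StSL.closure_transvection_eq_top (K := F) (show 2 ≤ 3 by norm_num), Subgroup.closure_le]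
    rintro _ ⟨i, j, hij, d, rfl⟩
    fin_cases i <;> fin_cases j
    all_goals first | exact absurd rfl hij | exact h01 d | exact h10 d | exact h12 d | exact h21 d | exact h20 d |
      exact h02 d
  by_cases hbig : ∃ d d' : F, d ≠ 0 ∧ d' ≠ 0 ∧ d ^ 2 ≠ 1 ∧ d' ^ 2 ≠ 1 ∧ d ^ 2 ≠ d' ^ 2
  · obtain ⟨d, d', hd, hd', hd1, hd'1, hdd⟩ := hbig
    have blk : ∀ e : F, e ^ 2 ≠ 1 → ∃ A ∈ N, (A : Matrix (Fin 3) (Fin 3) F) =
        !![1, e, 0; e, 1, 0; 0, 0, (1 - e ^ 2)⁻¹] := by
      intro e he
      have hp : 1 + e ≠ 0 := fun h => he (by linear_combination (e - 1) * h)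
      have hm : 1 - e ≠ 0 := fun h => he (by linear_combination (-(e + 1)) * h)
      have hee : (1 : F) - e ^ 2 ≠ 0 := sub_ne_zero.mpr (Ne.symm he)
      refine ⟨rot h2 * dia (Units.mk0 ((1 + e) / 2) (div_ne_zero hp h2))
        (Units.mk0 ((1 - e) / 2) (div_ne_zero hm h2)) * rot h2,
        mul_mem (mul_mem hrot (hdia _ _)) hrot, ?_⟩
      simp only [Matrix.SpecialLinearGroup.coe_mul, rot_coe, dia_coe]
      ext i j
      fin_cases i <;> fin_cases j <;> simp [Matrix.mul_apply, Fin.sum_univ_three] <;> field_simp <;> ring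
    obtain ⟨A, hA, eA⟩ := blk d hd1
    obtain ⟨B, hB, eB⟩ := blk d' hd'1
    have hs1 : (1 : F) - d ^ 2 ≠ 0 := sub_ne_zero.mpr (Ne.symm hd1)
    have hs2 : (1 : F) - d' ^ 2 ≠ 0 := sub_ne_zero.mpr (Ne.symm hd'1)
    let m : Fˣ := Units.mk0 (-(d / d')) (neg_ne_zero.mpr (div_ne_zero hd hd'))
    let a : Fˣ := Units.mk0 (1 - d ^ 2) hs1
    let b : Fˣ := Units.mk0 (d * (d' ^ 2 - 1) / d') (div_ne_zero (mul_ne_zero hd (sub_ne_zero.mpr hd'1)) hd')
    refine ⟨(d' ^ 2 - d ^ 2) / d' / (1 - d ^ 2),
      div_ne_zero (div_ne_zero (sub_ne_zero.mpr (Ne.symm hdd)) hd') hs1, ?_⟩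
    have e : Matrix.SpecialLinearGroup.transvection (show (0 : Fin 3) ≠ 1 by decide)
        ((d' ^ 2 - d ^ 2) / d' / (1 - d ^ 2)) = dia a⁻¹ b⁻¹ * (A * dia 1 m * B) := by
      refine Subtype.ext ?_
      simp only [Matrix.SpecialLinearGroup.coe_mul, Matrix.SpecialLinearGroup.transvection_coe, eA, eB, dia_coe]
      ext i j
      fin_cases i <;> fin_cases j <;>
        simp [Matrix.mul_apply, Fin.sum_univ_three, Matrix.single, Matrix.one_apply, a, b, m] <;> field_simp <;>
          (first | ring1 | exact Or.inr trivial | (ring_nf; simp))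
    rw [e]
    exact mul_mem (hdia _ _) (mul_mem (mul_mem hA (hdia _ _)) hB)
  · -- three or five elements: explicit words
    push Not at hbig
    have hq : Fintype.card F ≤ 5 := by
      by_contra hq
      push Not at hq
      have hcard : (({0, 1, -1} : Finset F)).card ≤ 3 := Finset.card_le_three
      obtain ⟨d, hd⟩ : ∃ d : F, d ∉ ({0, 1, -1} : Finset F) := by
        by_contra hno
        push Not at hno
        have := Finset.card_le_card (fun z _ => hno z : (Finset.univ : Finset F) ⊆ {0, 1, -1})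
        rw [Finset.card_univ] at this
        omega
      simp only [Finset.mem_insert, Finset.mem_singleton, not_or] at hd
      obtain ⟨hd0, hd1, hd2⟩ := hd
      have hsq : d ^ 2 ≠ 1 := fun e => (sq_eq_one_iff.mp e).elim hd1 hd2
      have hall : (Finset.univ : Finset F) ⊆ {0, 1, -1} ∪ {d, -d} := fun z _ => by
        simp only [Finset.mem_union, Finset.mem_insert, Finset.mem_singleton]
        by_cases hz0 : z = 0
        · exact Or.inl (Or.inl hz0)
        by_cases hz : z ^ 2 = 1
        · exact Or.inl (Or.inr (sq_eq_one_iff.mp hz))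
        exact Or.inr (sq_eq_sq_iff_eq_or_eq_neg.mp (hbig d z hd0 hz0 hsq hz).symm)
      have h1 := (Finset.card_le_card hall).trans (Finset.card_union_le _ _)
      have h4 : ({d, -d} : Finset F).card ≤ 2 := Finset.card_le_two
      rw [Finset.card_univ] at h1
      omega
    obtain ⟨p, n, hp, hpn⟩ : ∃ p n : ℕ, p.Prime ∧ Fintype.card F = p ^ n ∧ CharP F p := by
      obtain ⟨p, hp⟩ := CharP.exists F
      obtain ⟨n, h1, h3⟩ := FiniteField.card F p
      exact ⟨p, n, h1, h3, hp⟩
    haveI := hpn.2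
    haveI : Fact p.Prime := ⟨hp⟩
    have hp2 : p ≠ 2 := fun e => by
      subst e
      exact h2 (CharTwo.two_eq_zero)
    have hn0 : n ≠ 0 := fun e => by
      have := hpn.1 ▸ (Fintype.one_lt_card (α := F))
      rw [e, pow_zero] at this
      omega
    have hp5 : p = 3 ∨ p = 5 := by
      have h1 : p ≤ 5 := (Nat.le_self_pow hn0 p).trans (hpn.1 ▸ hq)
      have h4 := hp.two_le
      interval_cases p
      · exact absurd rfl hp2
      · exact Or.inl rfl
      · exact absurd hp (by norm_num)
      · exact Or.inr rfl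
    let f : ZMod p →+* F := ZMod.castHom (dvd_refl p) F
    let N₀ := N.comap (Matrix.SpecialLinearGroup.map f)
    have hd₀ : ∀ a b, dia a b ∈ N₀ := fun a b => by
      show Matrix.SpecialLinearGroup.map f (dia a b) ∈ N
      rw [map_dia]; exact hdia _ _
    have hc₀ : cyc ∈ N₀ := by
      show Matrix.SpecialLinearGroup.map f cyc ∈ N
      rw [map_cyc]; exact hcyc
    have h2p : (2 : ZMod p) ≠ 0 := fun e => by
      have h1 : p ∣ 2 := (ZMod.natCast_eq_zero_iff 2 p).mp (by exact_mod_cast e)
      rcases hp5 with rfl | rfl <;> omega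
    have hr₀ : rot h2p ∈ N₀ := by
      show Matrix.SpecialLinearGroup.map f (rot h2p) ∈ N
      rw [map_rot f h2p h2]; exact hrot
    have back : ∀ {W : Matrix.SpecialLinearGroup (Fin 3) (ZMod p)} {c : ZMod p}, W ∈ N₀ →
        (W : Matrix (Fin 3) (Fin 3) (ZMod p)) = 1 + Matrix.single 0 1 c → c ≠ 0 →
        ∃ c : F, c ≠ 0 ∧ Matrix.SpecialLinearGroup.transvection (show (0 : Fin 3) ≠ 1 by decide) c ∈ N := by
      intro W c hW e hc
      refine ⟨f c, (map_ne_zero f).mpr hc, ?_⟩
      have e' : Matrix.SpecialLinearGroup.transvection (show (0 : Fin 3) ≠ 1 by decide) (f c) =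
          Matrix.SpecialLinearGroup.map f W := Subtype.ext (by
        simp only [Matrix.SpecialLinearGroup.transvection_coe]
        ext i j
        show _ = f ((W : Matrix (Fin 3) (Fin 3) (ZMod p)) i j)
        rw [e]
        fin_cases i <;> fin_cases j <;> simp [Matrix.single, Matrix.one_apply])
      rw [e']
      exact hW
    rcases hp5 with rfl | rfl
    · exact back (W := word3 h2p) (word3_mem h2p hd₀ hc₀ hr₀) word3_eq two_ne_three
    · have hw₀ : swp ∈ N₀ := by
        show Matrix.SpecialLinearGroup.map f swp ∈ N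
        rw [map_swp]; exact hswp
      exact back (W := word5 h2p) (word5_mem h2p hd₀ hc₀ hw₀ hr₀) word5_eq three_ne_five

end LinThree

end CfsgLib.ProperCore
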