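import Cfsg.Agent.Lib.HermCount
import Cfsg.Prelude.Def_Classical

/-!
Monomial elements and a rotation of `SU₃(q)`, `q` odd, through their action on vectors, and the two circle counts: a
target norm always meets a norm reachable from the first axis.

Blueprint: `blueprint/S1728.md`, 3.
-/

set_option autoImplicit false
set_option linter.unusedSectionVars false
set_option linter.unusedSimpArgs false
set_option linter.flexible false

namespace CfsgLib.ProperCore.UnitThree

open Cfsg Matrix

variable {F : Type} [Field F] {q : ℕ}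

/-- The elements of norm one. -/
abbrev Circle (F : Type) [Field F] (q : ℕ) : Subgroup Fˣ := (powMonoidHom (q + 1) : Fˣ →* Fˣ).ker

theorem circle_norm (u : Circle F q) : ((u : Fˣ) : F) * ((u : Fˣ) : F) ^ q = 1 := by
  rw [← pow_succ']
  simpa using congrArg Units.val (MonoidHom.mem_ker.mp u.2)

variable [Fintype F] (hF : Fintype.card F = q ^ 2)

/-- The vector image. -/
def act (g : SU 3 F q) (v : Fin 3 → F) : Fin 3 → F := slToMat 3 F (g : Matrix.SpecialLinearGroup (Fin 3) F) *ᵥ v

theorem act_mul (g h : SU 3 F q) (v : Fin 3 → F) : act (g * h) v = act g (act h v) := by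
  simp only [act, Subgroup.coe_mul, map_mul, Matrix.mulVec_mulVec]

theorem act_one (v : Fin 3 → F) : act (1 : SU 3 F q) v = v := by
  simp only [act, OneMemClass.coe_one, map_one, Matrix.one_mulVec]

theorem act_inv (g : SU 3 F q) {v w : Fin 3 → F} (h : act g v = w) : act g⁻¹ w = v := by
  rw [← h, ← act_mul, inv_mul_cancel, act_one]

theorem act_add (g : SU 3 F q) (v w : Fin 3 → F) : act g (v + w) = act g v + act g w := Matrix.mulVec_add _ _ _

theorem act_smul (g : SU 3 F q) (c : F) (v : Fin 3 → F) : act g (c • v) = c • act g v := Matrix.mulVec_smul _ _ _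

theorem act_herm (g : SU 3 F q) (v w : Fin 3 → F) :
    hermForm 3 F q (act g v) (act g w) = hermForm 3 F q v w := g.2 v w

theorem ext_act {g h : SU 3 F q} (e : ∀ v, act g v = act h v) : g = h := by
  refine Subtype.ext (Subtype.ext ?_)
  exact Matrix.ext_iff_mulVec.mpr fun v => e v

theorem herm3 (u v : Fin 3 → F) : hermForm 3 F q u v = u 0 * v 0 ^ q + u 1 * v 1 ^ q + u 2 * v 2 ^ q := by
  simp [hermForm, Fin.sum_univ_three]

/-- An element from a matrix. -/
def mkSU (A : Matrix (Fin 3) (Fin 3) F) (hd : A.det = 1)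
    (hA : ∀ u v, hermForm 3 F q (A *ᵥ u) (A *ᵥ v) = hermForm 3 F q u v) : SU 3 F q :=
  ⟨⟨A, hd⟩, hA⟩

/-- A diagonal element. -/
def dia (a b : Circle F q) : SU 3 F q :=
  mkSU !![((a : Fˣ) : F), 0, 0; 0, ((b : Fˣ) : F), 0; 0, 0, (((a * b)⁻¹ : Circle F q) : Fˣ)]
    (by rw [Matrix.det_fin_three]; simp; field_simp) (fun u v => by
      have h1 := circle_norm a
      have h2 := circle_norm b
      have h3 := circle_norm ((a * b)⁻¹)
      simp only [herm3]
      simp [Matrix.mulVec, dotProduct, Fin.sum_univ_three, mul_pow] at h3 ⊢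
      linear_combination (u 0 * v 0 ^ q) * h1 + (u 1 * v 1 ^ q) * h2 + (u 2 * v 2 ^ q) * h3)

theorem act_dia (a b : Circle F q) (v : Fin 3 → F) :
    act (dia a b) v = ![((a : Fˣ) : F) * v 0, ((b : Fˣ) : F) * v 1, (((a * b)⁻¹ : Circle F q) : Fˣ) * v 2] := by
  funext i
  show (!![((a : Fˣ) : F), 0, 0; 0, ((b : Fˣ) : F), 0; 0, 0, (((a * b)⁻¹ : Circle F q) : Fˣ)] *ᵥ v) i = _
  fin_cases i <;> simp [Matrix.mulVec, dotProduct, Fin.sum_univ_three]

include hF in
theorem frob_q : 1 < q ∧ ∃ σ : F →+* F, ∀ x, σ x = x ^ q := UnitaryBasic.frob_exists hF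

/-- The cyclic permutation of the axes. -/
def cyc : SU 3 F q :=
  mkSU !![0, 0, 1; 1, 0, 0; 0, 1, 0] (by rw [Matrix.det_fin_three]; simp) (fun u v => by
    simp only [herm3]
    simp [Matrix.mulVec, dotProduct, Fin.sum_univ_three]
    ring)

theorem act_cyc (v : Fin 3 → F) : act (cyc : SU 3 F q) v = ![v 2, v 0, v 1] := by
  funext i
  show (!![(0 : F), 0, 1; 1, 0, 0; 0, 1, 0] *ᵥ v) i = _
  fin_cases i <;> simp [Matrix.mulVec, dotProduct, Fin.sum_univ_three]

/-- The exchange of the first two axes. -/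
def swp (hq : Odd q) : SU 3 F q :=
  mkSU !![0, 1, 0; 1, 0, 0; 0, 0, -1] (by rw [Matrix.det_fin_three]; simp) (fun u v => by
    simp only [herm3]
    simp [Matrix.mulVec, dotProduct, Fin.sum_univ_three, hq.neg_pow]
    ring)

theorem act_swp (hq : Odd q) (v : Fin 3 → F) : act (swp hq : SU 3 F q) v = ![v 1, v 0, -v 2] := by
  funext i
  show (!![(0 : F), 1, 0; 1, 0, 0; 0, 0, -1] *ᵥ v) i = _
  fin_cases i <;> simp [Matrix.mulVec, dotProduct, Fin.sum_univ_three]

/-- The rotation of the first plane, for `l` of norm one half. -/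
def rot (σ : F →+* F) (hσ : ∀ x, σ x = x ^ q) {l : F} (hl : 2 * (l * l ^ q) = 1) : SU 3 F q :=
  mkSU !![l, l, 0; l, -l, 0; 0, 0, -(2 * l ^ 2)⁻¹]
    (by
      have h2 : (2 : F) ≠ 0 := fun e => one_ne_zero (by rw [← hl, e, zero_mul])
      have h1 : l ≠ 0 := fun e => one_ne_zero (by rw [← hl, e]; ring)
      rw [Matrix.det_fin_three]; simp; field_simp; ring)
    (fun u v => by
      have h2 : (2 : F) ≠ 0 := fun e => one_ne_zero (by rw [← hl, e, zero_mul])
      have h1 : l ≠ 0 := fun e => one_ne_zero (by rw [← hl, e]; ring)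
      have h5 : l * σ l * 2 = 1 := by rw [hσ]; linear_combination hl
      have h3 : -(2 * l ^ 2)⁻¹ * σ (-(2 * l ^ 2)⁻¹) = 1 := by
        have h0 : σ l ≠ 0 := (map_ne_zero σ).mpr h1
        rw [map_neg, map_inv₀, map_mul, map_pow, map_ofNat]
        field_simp
        linear_combination (-(l * σ l * 2) - 1) * h5
      simp only [herm3, ← hσ]
      simp [Matrix.mulVec, dotProduct, Fin.sum_univ_three] at h3 ⊢
      linear_combination (u 0 * σ (v 0) + u 1 * σ (v 1)) * h5 + (u 2 * σ (v 2)) * h3)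

theorem act_rot (σ : F →+* F) (hσ : ∀ x, σ x = x ^ q) {l : F} (hl : 2 * (l * l ^ q) = 1) (v : Fin 3 → F) :
    act (rot σ hσ hl) v = ![l * (v 0 + v 1), l * (v 0 - v 1), -(2 * l ^ 2)⁻¹ * v 2] := by
  funext i
  show (!![l, l, 0; l, -l, 0; 0, 0, -(2 * l ^ 2)⁻¹] *ᵥ v) i = _
  fin_cases i <;> simp [Matrix.mulVec, dotProduct, Fin.sum_univ_three] <;> ring

include hF

theorem sigma_sigma {σ : F →+* F} (hσ : ∀ x, σ x = x ^ q) (x : F) : σ (σ x) = x := by
  rw [hσ, hσ, ← pow_mul, ← sq, ← hF, FiniteField.pow_card]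

/-- The traces of the multiples of `a` on the circle: at least half as many as the circle has points. -/
theorem card_traces [DecidableEq F] {σ : F →+* F} (hσ : ∀ x, σ x = x ^ q) {a : F} (ha : a ≠ 0) :
    q + 1 ≤ 2 * (((Finset.univ.filter fun u : F => u ^ (q + 1) = 1).image fun u => a * u + σ (a * u))).card := by
  have hU : (Finset.univ.filter fun u : F => u ^ (q + 1) = 1).card = q + 1 :=
    (Nat.card_eq_fintype_card.trans (Fintype.card_subtype _)).symm.trans
      (HermCount.card_fibre hF one_ne_zero (one_pow q))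
  refine hU.symm.le.trans (Finset.card_le_mul_card_image _ 2 fun b hb => ?_)
  obtain ⟨u₀, hu₀, rfl⟩ := Finset.mem_image.mp hb
  have hsub : ((Finset.univ.filter fun u : F => u ^ (q + 1) = 1).filter
      fun u => a * u + σ (a * u) = a * u₀ + σ (a * u₀)) ⊆ {u₀, σ a * σ u₀ / a} := by
    intro u hu
    rw [Finset.mem_filter, Finset.mem_filter] at hu
    have e0 : u₀ * σ u₀ = 1 := by rw [hσ, ← pow_succ']; exact (Finset.mem_filter.mp hu₀).2
    have e1 : u * σ u = 1 := by rw [hσ, ← pow_succ']; exact hu.1.2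
    have e : a * u + σ a * σ u = a * u₀ + σ a * σ u₀ := by rw [← map_mul, ← map_mul]; exact hu.2
    have hz : (u - u₀) * (a * u - σ a * σ u₀) = 0 := by
      linear_combination u * e + σ a * e0 - σ a * e1
    rcases mul_eq_zero.mp hz with h | h
    · exact Finset.mem_insert.mpr (Or.inl (sub_eq_zero.mp h))
    · refine Finset.mem_insert_of_mem (Finset.mem_singleton.mpr ?_)
      rw [eq_div_iff ha, mul_comm, sub_eq_zero.mp h]
  exact (Finset.card_le_card hsub).trans Finset.card_le_two

/-- Every trace of `a` times the circle meets a shifted trace of the circle. -/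
theorem exists_meet {σ : F →+* F} (hσ : ∀ x, σ x = x ^ q) (h2 : (2 : F) ≠ 0) {a : F} (ha : a ≠ 0) :
    ∃ u w : Circle F q, 2 + ((u : Fˣ) : F) + σ ((u : Fˣ) : F) =
      2 * (1 + (a * ((w : Fˣ) : F) + σ (a * ((w : Fˣ) : F)))) := by
  classical
  set U := Finset.univ.filter fun u : F => u ^ (q + 1) = 1 with hU
  set A := (U.image fun u => (1 : F) * u + σ (1 * u)).image fun x => 2 + x with hA
  set B := (U.image fun u => a * u + σ (a * u)).image fun x => 2 * (1 + x) with hB
  set K := Finset.univ.filter fun x : F => σ x = x with hK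
  have hq := (frob_q hF).1
  have hKc : K.card ≤ q := by
    have h1 : K ⊆ (Polynomial.X ^ q - Polynomial.X : Polynomial F).roots.toFinset := fun x hx => by
      rw [Multiset.mem_toFinset, Polynomial.mem_roots (FiniteField.X_pow_card_sub_X_ne_zero F hq)]
      simp [← hσ, (Finset.mem_filter.mp hx).2]
    refine (Finset.card_le_card h1).trans ((Multiset.toFinset_card_le _).trans ?_)
    exact (Polynomial.card_roots' _).trans_eq (FiniteField.X_pow_card_sub_X_natDegree_eq F hq)
  have hfix : ∀ c : F, σ (c + σ c) = c + σ c := fun c => by rw [map_add, sigma_sigma hF hσ, add_comm]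
  have hAK : A ⊆ K := by
    intro x hx
    obtain ⟨y, hy, rfl⟩ := Finset.mem_image.mp hx
    obtain ⟨u, -, rfl⟩ := Finset.mem_image.mp hy
    exact Finset.mem_filter.mpr ⟨Finset.mem_univ _, by rw [map_add, map_ofNat, hfix]⟩
  have hBK : B ⊆ K := by
    intro x hx
    obtain ⟨y, hy, rfl⟩ := Finset.mem_image.mp hx
    obtain ⟨u, -, rfl⟩ := Finset.mem_image.mp hy
    exact Finset.mem_filter.mpr ⟨Finset.mem_univ _, by rw [map_mul, map_add, map_one, map_ofNat, hfix]⟩
  have hAc : q + 1 ≤ 2 * A.card := by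
    rw [hA, Finset.card_image_of_injective _ (add_right_injective (2 : F))]
    exact card_traces hF hσ one_ne_zero
  have hBc : q + 1 ≤ 2 * B.card := by
    rw [hB, Finset.card_image_of_injective _ fun x y e => by
      exact add_left_cancel (mul_left_cancel₀ h2 e)]
    exact card_traces hF hσ ha
  have h3 : ¬ Disjoint A B := fun hd => by
    have h4 := (Finset.card_union_of_disjoint hd).symm.le.trans (Finset.card_le_card (Finset.union_subset hAK hBK))
    omega
  obtain ⟨x, hxA, hxB⟩ := Finset.not_disjoint_iff.mp h3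
  obtain ⟨y, hy, rfl⟩ := Finset.mem_image.mp hxA
  obtain ⟨u, hu, rfl⟩ := Finset.mem_image.mp hy
  obtain ⟨y, hy, e⟩ := Finset.mem_image.mp hxB
  obtain ⟨w, hw, rfl⟩ := Finset.mem_image.mp hy
  have mk : ∀ z ∈ U, ∃ z' : Circle F q, ((z' : Fˣ) : F) = z := fun z hz => by
    have hz1 : z ^ (q + 1) = 1 := (Finset.mem_filter.mp hz).2
    have hz0 : z ≠ 0 := fun e0 => zero_ne_one (by rw [← hz1, e0, zero_pow (by omega)])
    exact ⟨⟨Units.mk0 z hz0, MonoidHom.mem_ker.mpr (Units.ext (by simpa using hz1))⟩, rfl⟩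
  obtain ⟨u', hu'⟩ := mk u hu
  obtain ⟨w', hw'⟩ := mk w hw
  refine ⟨u', w', ?_⟩
  rw [hu', hw', e, one_mul, add_assoc]

end CfsgLib.ProperCore.UnitThree
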