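import Cfsg.Agent.Lib.ProperCore.Lift
import Cfsg.Agent.Lib.ProperCore.UnitaryElts

/-!
`U₃(q)`, `q` odd, has no proper core: a controlling subgroup of `SU₃` holds the monomial elements and a rotation of the
first plane, so it is transitive on the vectors of norm one, with the whole stabiliser of the first axis.

Blueprint: `blueprint/S1728.md`, 3.
-/

set_option autoImplicit false
set_option linter.unusedSectionVars false
set_option linter.unusedSimpArgs false
set_option linter.flexible false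

universe u

namespace CfsgLib.ProperCore.UnitThree

open Cfsg Matrix
open CfsgLib.Bender.TwoClosed (IsInv)

variable {F : Type} [Field F] [Fintype F] {q : ℕ}

/-- The unit vectors. -/
abbrev e₀ : Fin 3 → F := ![1, 0, 0]
/-- The third unit vector. -/
abbrev e₂ : Fin 3 → F := ![0, 0, 1]

/-- `v` is the image of the first axis under an element of `N` keeping the third axis. -/
def Reach (N : Subgroup (SU 3 F q)) (v : Fin 3 → F) : Prop :=
  ∃ g ∈ N, act g e₀ = v ∧ ∃ s : F, act g e₂ = s • e₂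

theorem Reach.trans {N : Subgroup (SU 3 F q)} {v : Fin 3 → F} (h : Reach N v) {k : SU 3 F q} (hk : k ∈ N) {c : F}
    (hc : act k e₂ = c • e₂) {w : Fin 3 → F} (hw : act k v = w) : Reach N w := by
  obtain ⟨g, hg, h0, s, h1⟩ := h
  exact ⟨k * g, mul_mem hk hg, by rw [act_mul, h0, hw], s * c, by rw [act_mul, h1, act_smul, hc, smul_smul]⟩

variable (hF : Fintype.card F = q ^ 2) (hq : Odd q)
include hF hq

theorem two_ne : (2 : F) ≠ 0 := by
  refine Ring.two_ne_zero fun e => ?_
  have h1 := FiniteField.even_card_iff_char_two.mp e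
  have h2 : Odd (Fintype.card F) := hF ▸ hq.pow
  rw [Nat.odd_iff] at h2
  omega

variable {σ : F →+* F} (hσ : ∀ x, σ x = x ^ q) {l : F} (hl : 2 * (l * l ^ q) = 1)
  {N : Subgroup (SU 3 F q)} (hdia : ∀ a b : Circle F q, dia a b ∈ N) (hcyc : cyc ∈ N)
  (hrot : rot σ hσ hl ∈ N)
include hσ hl hdia hcyc hrot

/-- The vectors of norm one of the first plane are reached. -/
theorem reach_plane {α β : F} (hn : α * σ α + β * σ β = 1) : Reach N ![α, β, 0] := by
  have h2 := two_ne hF hq
  have hσσ := sigma_sigma hF hσ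
  have hdia2 : ∀ a b : Circle F q, act (dia a b) e₂ = ((((a * b)⁻¹ : Circle F q) : Fˣ) : F) • e₂ := fun a b => by
    rw [act_dia]; funext i; fin_cases i <;> simp
  have hrot2 : act (rot σ hσ hl) e₂ = (-(2 * l ^ 2)⁻¹) • e₂ := by
    rw [act_rot]; funext i; fin_cases i <;> simp
  -- a vector with the norm profile of a reached one is reached
  have same : ∀ x y z w : F, Reach N ![x, y, 0] → z * σ z = x * σ x → w * σ w = y * σ y → Reach N ![z, w, 0] := by
    intro x y z w hr hz hw
    have ratio : ∀ p r : F, r * σ r = p * σ p → ∃ a : Circle F q, ((a : Fˣ) : F) * p = r := by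
      intro p r h
      by_cases hp : p = 0
      · refine ⟨1, ?_⟩
        rw [hp, zero_mul, mul_eq_zero, map_eq_zero] at h
        rw [hp, mul_zero, h.elim id id]
      · have hr0 : r ≠ 0 := fun e => hp (by
          rw [e, zero_mul, eq_comm, mul_eq_zero, map_eq_zero] at h
          exact h.elim id id)
        refine ⟨⟨Units.mk0 (r / p) (div_ne_zero hr0 hp), MonoidHom.mem_ker.mpr (Units.ext ?_)⟩, by simp [hp]⟩
        simp only [powMonoidHom_apply, Units.val_pow_eq_pow_val, Units.val_mk0, Units.val_one]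
        rw [pow_succ', ← hσ, map_div₀, div_mul_div_comm, h, div_self (mul_ne_zero hp ((map_ne_zero σ).mpr hp))]
    obtain ⟨a, ha⟩ := ratio x z hz
    obtain ⟨b, hb⟩ := ratio y w hw
    exact hr.trans (hdia a b) (hdia2 a b) (by rw [act_dia]; funext i; fin_cases i <;> simp [ha, hb])
  -- the first reached vectors
  have first : ∀ (u : Circle F q) (z w : F), 4 * (z * σ z) = 2 + ((u : Fˣ) : F) + σ ((u : Fˣ) : F) →
      4 * (w * σ w) = 2 - ((u : Fˣ) : F) - σ ((u : Fˣ) : F) → Reach N ![z, w, 0] := by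
    intro u z w hz hw
    have hl' : 2 * (l * σ l) = 1 := by rw [hσ]; exact hl
    have hu : ((u : Fˣ) : F) * σ ((u : Fˣ) : F) = 1 := by rw [hσ]; exact circle_norm u
    have h0 : Reach N e₀ := ⟨1, one_mem N, act_one _, 1, by rw [act_one, one_smul]⟩
    have h1 : Reach N ![l, l, 0] := h0.trans hrot hrot2 (by rw [act_rot]; funext i; fin_cases i <;> simp)
    have h3 : Reach N ![l, ((u : Fˣ) : F) * l, 0] :=
      h1.trans (hdia 1 u) (hdia2 1 u) (by rw [act_dia]; funext i; fin_cases i <;> simp)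
    have h4 : Reach N ![l * (l + ((u : Fˣ) : F) * l), l * (l - ((u : Fˣ) : F) * l), 0] :=
      h3.trans hrot hrot2 (by rw [act_rot]; funext i; fin_cases i <;> simp)
    refine same _ _ z w h4 ?_ ?_
    · refine mul_left_cancel₀ (mul_ne_zero h2 h2) ?_
      simp only [map_mul, map_add]
      linear_combination hz - (2 + ((u : Fˣ) : F) + σ ((u : Fˣ) : F)) * (2 * l * σ l + 1) * hl' -
        (4 * l * l * σ l * σ l) * hu
    · refine mul_left_cancel₀ (mul_ne_zero h2 h2) ?_
      simp only [map_mul, map_sub]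
      linear_combination hw - (2 - ((u : Fˣ) : F) - σ ((u : Fˣ) : F)) * (2 * l * σ l + 1) * hl' -
        (4 * l * l * σ l * σ l) * hu
  by_cases h0 : α = 0
  · refine first ⟨-1, MonoidHom.mem_ker.mpr (Units.ext (by simp [hq.add_one.neg_one_pow]))⟩ α β ?_ ?_
    · simp [h0]; ring
    · rw [h0, zero_mul, zero_add] at hn
      rw [hn]; simp; ring
  by_cases h1 : β = 0
  · refine first 1 α β ?_ ?_
    · rw [h1, zero_mul, add_zero] at hn
      rw [hn]; simp; ring
    · simp [h1]; ring
  obtain ⟨u, w, huw⟩ := exists_meet hF hσ h2 (a := α * σ β) (mul_ne_zero h0 ((map_ne_zero σ).mpr h1))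
  -- move the target by the rotation
  let b : Circle F q := w⁻¹
  have hb : ((b : Fˣ) : F) = σ ((w : Fˣ) : F) := by
    have hw1 : ((w : Fˣ) : F) * σ ((w : Fˣ) : F) = 1 := by rw [hσ]; exact circle_norm w
    show (((w⁻¹ : Circle F q) : Fˣ) : F) = _
    rw [Subgroup.coe_inv, Units.val_inv_eq_inv_val, inv_eq_of_mul_eq_one_right hw1]
  have hl' : 2 * (l * σ l) = 1 := by rw [hσ]; exact hl
  have hwn : ((b : Fˣ) : F) * σ ((b : Fˣ) : F) = 1 := by rw [hσ]; exact circle_norm b
  let g : SU 3 F q := rot σ hσ hl * dia 1 b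
  have hg : g ∈ N := mul_mem hrot (hdia 1 b)
  have himg : act g ![α, β, 0] =
      ![l * (α + ((b : Fˣ) : F) * β), l * (α - ((b : Fˣ) : F) * β), 0] := by
    rw [act_mul, act_dia, act_rot]; funext i; fin_cases i <;> simp
  have hr : Reach N ![l * (α + ((b : Fˣ) : F) * β), l * (α - ((b : Fˣ) : F) * β), 0] := by
    refine first u _ _ ?_ ?_
    · rw [huw, hb]
      simp only [map_mul, map_add, hσσ]
      rw [hb, hσσ] at hwn
      linear_combination (2 * (α + σ ((w : Fˣ) : F) * β) * (σ α + ((w : Fˣ) : F) * σ β)) * hl' + 2 * hn +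
        (2 * β * σ β) * hwn
    · rw [show (2 : F) - ((u : Fˣ) : F) - σ ((u : Fˣ) : F) = 4 - (2 + ((u : Fˣ) : F) + σ ((u : Fˣ) : F)) by ring,
        huw, hb]
      simp only [map_mul, map_add, map_sub, hσσ]
      rw [hb, hσσ] at hwn
      linear_combination (2 * (α - σ ((w : Fˣ) : F) * β) * (σ α - ((w : Fˣ) : F) * σ β)) * hl' + 2 * hn +
        (2 * β * σ β) * hwn
  have hg2 : act g e₂ = ((((1 * b)⁻¹ : Circle F q) : Fˣ) : F) • (-(2 * l ^ 2)⁻¹) • e₂ := by
    rw [act_mul, hdia2, act_smul, hrot2]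
  have hinv : act g⁻¹ e₂ = ((((1 * b)⁻¹ : Circle F q) : Fˣ) * (-(2 * l ^ 2)⁻¹) : F)⁻¹ • e₂ := by
    have hne : ((((1 * b)⁻¹ : Circle F q) : Fˣ) * (-(2 * l ^ 2)⁻¹) : F) ≠ 0 := by
      have hl0 : l ≠ 0 := fun e => one_ne_zero (by rw [← hl, e]; ring)
      exact mul_ne_zero (Units.ne_zero _) (neg_ne_zero.mpr (inv_ne_zero (mul_ne_zero h2 (pow_ne_zero 2 hl0))))
    apply smul_right_injective (Fin 3 → F) hne
    dsimp only
    rw [← act_smul, smul_smul _ _ e₂, mul_inv_cancel₀ hne, one_smul, ← smul_smul, ← hg2, ← act_mul,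
      inv_mul_cancel, act_one]
  exact hr.trans (inv_mem hg) hinv (act_inv g himg)

/-- Every vector of norm one is an image of the first axis. -/
theorem reach_all {v : Fin 3 → F} (hv : hermForm 3 F q v v = 1) : ∃ g ∈ N, act g e₀ = v := by
  have h2 := two_ne hF hq
  rw [herm3, ← hσ, ← hσ, ← hσ] at hv
  have step : ∀ a b c : F, a * σ a + b * σ b + c * σ c = 1 → a * σ a + b * σ b ≠ 0 →
      ∃ g ∈ N, act g e₀ = ![a, b, c] := by
    intro a b c h hm
    obtain ⟨t, ht⟩ := HermCount.exists_norm hF hm (by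
      rw [← hσ, map_add, map_mul, map_mul, sigma_sigma hF hσ, sigma_sigma hF hσ]; ring)
    have ht0 : ((t : Fˣ) : F) ≠ 0 := t.ne_zero
    have ht' : ((t : Fˣ) : F) * σ t = a * σ a + b * σ b := by rw [hσ (t : F), ← pow_succ']; exact ht
    have hst : σ (t : F) ≠ 0 := (map_ne_zero σ).mpr ht0
    obtain ⟨k, hk, hk0, s, hk2⟩ := reach_plane hF hq hσ hl hdia hcyc hrot (α := a / t) (β := b / t) (by
      rw [map_div₀, map_div₀]; field_simp; linear_combination -ht')
    have hs : s ≠ 0 := fun e => by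
      have h1 := act_inv k hk2
      rw [e, zero_smul, show act k⁻¹ (0 : Fin 3 → F) = 0 from Matrix.mulVec_zero _] at h1
      exact one_ne_zero (congrFun h1 2).symm
    have hsn : s * σ s = 1 := by
      have h1 := act_herm k e₂ e₂
      rw [hk2, herm3, herm3] at h1
      simpa [← hσ] using h1
    obtain ⟨k', hk', hk'0, -⟩ := reach_plane hF hq hσ hl hdia hcyc hrot (α := c / s) (β := (t : F)) (by
      rw [map_div₀, div_mul_div_comm, hsn, div_one]; linear_combination h + ht')
    refine ⟨k * (cyc * (cyc * k')), mul_mem hk (mul_mem hcyc (mul_mem hcyc hk')), ?_⟩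
    have ecc : act (cyc : SU 3 F q) (act (cyc : SU 3 F q) (![c / s, (t : F), 0] : Fin 3 → F)) = ((t : F) • e₀ + (c / s) • e₂ : Fin 3 → F) := by
      rw [act_cyc, act_cyc]; funext i; fin_cases i <;> simp
    rw [act_mul, act_mul, act_mul, hk'0, ecc, act_add, act_smul, act_smul, hk0, hk2]
    funext i
    fin_cases i <;> simp <;> field_simp
  obtain ⟨a, b, c, rfl⟩ : ∃ a b c : F, v = ![a, b, c] := ⟨v 0, v 1, v 2, by funext i; fin_cases i <;> rfl⟩
  simp at hv
  by_cases h1 : a * σ a + b * σ b ≠ 0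
  · exact step a b c hv h1
  push Not at h1
  by_cases h3 : b * σ b + c * σ c ≠ 0
  · obtain ⟨g, hg, e⟩ := step b c a (by linear_combination hv) h3
    exact ⟨cyc * g, mul_mem hcyc hg, by rw [act_mul, e, act_cyc]; funext i; fin_cases i <;> simp⟩
  push Not at h3
  obtain ⟨g, hg, e⟩ := step c a b (by linear_combination hv) fun h4 => h2 (by
    linear_combination h1 + h3 + h4 - 2 * hv)
  exact ⟨cyc * (cyc * g), mul_mem hcyc (mul_mem hcyc hg), by
    rw [act_mul, act_mul, e, act_cyc, act_cyc]; funext i; fin_cases i <;> simp⟩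

/-- The controlling subgroup is everything. -/
theorem eq_top : N = ⊤ := by
  have hq0 : q ≠ 0 := by have := (frob_q hF).1; omega
  have he0 : hermForm 3 F q (e₀ : Fin 3 → F) e₀ = 1 := by rw [herm3]; simp [hq0]
  refine eq_top_iff.mpr fun g _ => ?_
  obtain ⟨g₁, hg₁, e1⟩ := reach_all hF hq hσ hl hdia hcyc hrot (v := act g e₀) (by rw [act_herm, he0])
  suffices hfix : ∀ h : SU 3 F q, act h e₀ = e₀ → h ∈ N by
    have h1 := hfix (g₁⁻¹ * g) (by rw [act_mul, act_inv g₁ e1])
    exact (mul_inv_cancel_left g₁ g) ▸ mul_mem hg₁ h1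
  intro h hh
  -- the image of the second axis
  have hv0 : act h ![0, 1, 0] 0 = 0 := by
    have h1 := act_herm h ![0, 1, 0] e₀
    rw [hh, herm3, herm3] at h1
    simpa [hq0] using h1
  have hvn : act h ![0, 1, 0] 1 * σ (act h ![0, 1, 0] 1) + act h ![0, 1, 0] 2 * σ (act h ![0, 1, 0] 2) = 1 := by
    have h1 := act_herm h ![0, 1, 0] ![0, 1, 0]
    rw [herm3, herm3, hv0] at h1
    simpa [hσ, hq0] using h1
  obtain ⟨k, hk, hk0, s, hk2⟩ := reach_plane hF hq hσ hl hdia hcyc hrot hvn
  let K : SU 3 F q := cyc * k * (cyc * cyc)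
  have hKN : K ∈ N := mul_mem (mul_mem hcyc hk) (mul_mem hcyc hcyc)
  have hK0 : act K e₀ = s • e₀ := by
    have e : act (cyc * cyc : SU 3 F q) e₀ = e₂ := by
      rw [act_mul, act_cyc, act_cyc]; funext i; fin_cases i <;> simp
    rw [act_mul, e, act_mul, hk2, act_smul, act_cyc]
    funext i; fin_cases i <;> simp
  have hK1 : act K ![0, 1, 0] = act h ![0, 1, 0] := by
    have e : act (cyc * cyc : SU 3 F q) ![0, 1, 0] = e₀ := by
      rw [act_mul, act_cyc, act_cyc]; funext i; fin_cases i <;> simp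
    rw [act_mul, e, act_mul, hk0, act_cyc]
    funext i; fin_cases i <;> simp [hv0]
  have hs : s ≠ 0 := fun e => by
    have h1 := act_inv K hK0
    rw [e, zero_smul, show act K⁻¹ (0 : Fin 3 → F) = 0 from Matrix.mulVec_zero _] at h1
    exact one_ne_zero (congrFun h1 0).symm
  let d : SU 3 F q := K⁻¹ * h
  have hd1 : act d ![0, 1, 0] = ![0, 1, 0] := by rw [act_mul, act_inv K hK1]
  have hd0 : act d e₀ = s⁻¹ • e₀ := by
    rw [act_mul, hh]
    refine act_inv K ?_
    rw [act_smul, hK0, smul_smul, inv_mul_cancel₀ hs, one_smul]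
  -- so the element is diagonal
  have hd20 : act d e₂ 0 = 0 := by
    have h1 := act_herm d e₂ e₀
    rw [hd0, herm3, herm3] at h1
    simpa [hq0, hs] using h1
  have hd21 : act d e₂ 1 = 0 := by
    have h1 := act_herm d e₂ ![0, 1, 0]
    rw [hd1, herm3, herm3] at h1
    simpa [hq0] using h1
  have hsn : s⁻¹ * σ s⁻¹ = 1 := by
    have h1 := act_herm d e₀ e₀
    rw [hd0, herm3, herm3] at h1
    simpa [← hσ] using h1
  let a : Circle F q := ⟨Units.mk0 s⁻¹ (inv_ne_zero hs), MonoidHom.mem_ker.mpr (Units.ext (by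
    rw [powMonoidHom_apply, Units.val_pow_eq_pow_val, Units.val_mk0, pow_succ', ← hσ, hsn, Units.val_one]))⟩
  have hdv : ∀ v : Fin 3 → F, act d v = ![s⁻¹ * v 0, v 1, act d e₂ 2 * v 2] := fun v => by
    conv_lhs => rw [show v = v 0 • e₀ + v 1 • ![0, 1, 0] + v 2 • e₂ by funext i; fin_cases i <;> simp]
    rw [act_add, act_add, act_smul, act_smul, act_smul, hd0, hd1]
    funext i
    fin_cases i <;> simp [hd20, hd21] <;> ring
  have hdet : s⁻¹ * act d e₂ 2 = 1 := by
    have hm : slToMat 3 F (d : Matrix.SpecialLinearGroup (Fin 3) F) = diagonal ![s⁻¹, 1, act d e₂ 2] :=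
      Matrix.ext_iff_mulVec.mpr fun v => by
        funext i
        rw [Matrix.mulVec_diagonal]
        show act d v i = _
        rw [hdv]
        fin_cases i <;> simp
    have h1 : (slToMat 3 F (d : Matrix.SpecialLinearGroup (Fin 3) F)).det = 1 :=
      (d : Matrix.SpecialLinearGroup (Fin 3) F).2
    rw [hm, det_diagonal, Fin.prod_univ_three] at h1
    simpa using h1
  have hd : d = dia a 1 := ext_act fun v => by
    rw [hdv, act_dia]
    have h3 : act d e₂ 2 = s := by rw [← one_mul s, ← hdet]; field_simp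
    funext i
    fin_cases i <;> simp [a, h3]
  rw [show h = K * d by simp [d]]
  exact mul_mem hKN (hd ▸ hdia a 1)

omit hσ hl hdia hcyc hrot

/-- `U₃(q)` has no proper core. -/
theorem not_core {G : Type u} [Group G] [Finite G] {S : Sylow 2 G} {M : Subgroup G} (C : Core S M)
    {π : SU 3 F q →* G} (hπ : Function.Surjective π) (hker : ∀ a, π a = 1 → a ∈ Subgroup.center (SU 3 F q)) :
    False := by
  obtain ⟨hq1, σ, hσ⟩ := frob_q hF
  have h2 := two_ne hF hq
  obtain ⟨l, hl⟩ : ∃ l : F, 2 * (l * l ^ q) = 1 := by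
    obtain ⟨t, ht⟩ := HermCount.exists_norm hF (inv_ne_zero h2) (by rw [← hσ, map_inv₀, map_ofNat])
    exact ⟨t, by rw [← pow_succ', ht, mul_inv_cancel₀ h2]⟩
  set m : Circle F q := ⟨-1, by simp [hq.add_one.neg_one_pow]⟩ with hm
  have hm1 : ((m : Fˣ) : F) = -1 := by simp [hm]
  have hmm : m * m = 1 := Subtype.ext (Units.ext (by simp [hm]))
  have hne : (1 : F) ≠ -1 := fun e => h2 (by linear_combination e)
  have hd2 : ∀ a b c d : Circle F q, dia a b * dia c d = dia (a * c) (b * d) := fun a b c d =>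
    ext_act fun v => by
      rw [act_mul, act_dia, act_dia, act_dia]; funext i; fin_cases i <;> simp <;> ring
  have hd1 : dia (1 : Circle F q) 1 = 1 := ext_act fun v => by
    rw [act_dia, act_one]; funext i; fin_cases i <;> simp
  have hnc : ∀ a b : Circle F q, ((a : Fˣ) : F) ≠ ((b : Fˣ) : F) → π (dia a b) ≠ 1 := fun a b hab e => hab (by
    have h1 := congrFun (congrArg (fun g : SU 3 F q => act g e₀) (Subgroup.mem_center_iff.mp (hker _ e) (swp hq))) 1
    simp [act_mul, act_dia, act_swp] at h1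
    exact h1)
  have hxne : π (dia m m) ≠ 1 := fun e => hne (by
    have h1 := congrFun (congrArg (fun g : SU 3 F q => act g ![0, 1, 0]) (Subgroup.mem_center_iff.mp (hker _ e) cyc)) 2
    simp [act_mul, act_dia, act_cyc, hm1] at h1
    first | exact h1 | exact h1.symm)
  have hxi : IsInv (π (dia m m)) := ⟨hxne, by rw [← map_mul, hd2, hmm, hd1, map_one]⟩
  have hyi : IsInv (π (dia 1 m)) := ⟨hnc _ _ (by rw [hm1]; simpa using hne), by
    rw [← map_mul, hd2, hmm, mul_one, hd1, map_one]⟩
  have hxy : π (dia m m) ≠ π (dia 1 m) := fun e => hnc m 1 (by rw [hm1]; simpa using hne.symm) (by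
    have h1 : dia m m * dia 1 m = dia m 1 := by rw [hd2, mul_one, hmm]
    rw [← h1, map_mul, e, hyi.2])
  have hc : Commute (π (dia m m)) (π (dia 1 m)) := by
    show π _ * π _ = π _ * π _
    rw [← map_mul, ← map_mul, hd2, hd2, mul_comm m 1]
  obtain ⟨N, hN⟩ := C.exists_ctrl hπ hxi hyi hxy hc
  have move : ∀ g x' y' : SU 3 F q, g * dia m m = x' * g → g * dia 1 m = y' * g → x' ∈ N → y' ∈ N → g ∈ N :=
    fun g x' y' e1 e2 h1 h4 => hN.move _ hN.x_mem _ hN.y_mem hxi hyi hxy hc g
      (by rwa [mul_inv_eq_iff_eq_mul.mpr e1]) (by rwa [mul_inv_eq_iff_eq_mul.mpr e2])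
  have hdia : ∀ a b : Circle F q, dia a b ∈ N := fun a b => move _ _ _
    (by rw [hd2, hd2, mul_comm a, mul_comm b]) (by rw [hd2, hd2, mul_comm a, mul_comm b]) hN.x_mem hN.y_mem
  have hcyc : cyc ∈ N := move _ (dia 1 m) (dia m 1)
    (ext_act fun v => by simp only [act_mul, act_dia, act_cyc]; funext i; fin_cases i <;> simp [hm1])
    (ext_act fun v => by simp only [act_mul, act_dia, act_cyc]; funext i; fin_cases i <;> simp [hm1])
    (hdia _ _) (hdia _ _)
  have hswp : swp hq ∈ N := move _ (dia m m) (dia m 1)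
    (ext_act fun v => by simp only [act_mul, act_dia, act_swp]; funext i; fin_cases i <;> simp [hm1])
    (ext_act fun v => by simp only [act_mul, act_dia, act_swp]; funext i; fin_cases i <;> simp [hm1])
    hN.x_mem (hdia _ _)
  have hrot : rot σ hσ hl ∈ N := move _ (dia m m) (swp hq)
    (ext_act fun v => by simp only [act_mul, act_dia, act_rot]; funext i; fin_cases i <;> simp [hm1] <;> (first | ring1 | (ring_nf; simp)))
    (ext_act fun v => by
      simp only [act_mul, act_dia, act_rot, act_swp]; funext i; fin_cases i <;> simp [hm1] <;> (first | ring1 | (ring_nf; simp)))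
    hN.x_mem hswp
  exact hN.ne_top (eq_top hF hq hσ hl hdia hcyc hrot)

end CfsgLib.ProperCore.UnitThree
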