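import Cfsg.Agent.Lib.ProperCore.HighRank
import Cfsg.Agent.Lib.ProperCore.Abelian
import Cfsg.Agent.Lib.ProperCore.AltSeven
import Cfsg.Agent.Lib.ProperCore.Linear
import Cfsg.Agent.Lib.ProperCore.Unitary
import Cfsg.Agent.Lib.SimpleM11.Recognition
import Cfsg.Agent.Lib.M11Det.Basic
import Cfsg.Agent.Lib.Bender.ConsSimple
import Cfsg.Agent.S0482

/-!
Simple groups with a proper 2-generated core.

Blueprint: `blueprint/S1728.md`.
-/

set_option autoImplicit false
set_option linter.unusedSectionVars false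
set_option linter.style.haveILetI false

universe u

namespace CfsgLib.ProperCore

open Cfsg

variable (G : Type u) [Group G]

/-- The groups with a proper core. -/
def Listed : Prop :=
  (∃ (F : Type) (_ : Field F) (_ : Fintype F), 3 ≤ Fintype.card F ∧
      Nonempty (G ≃* Matrix.ProjectiveSpecialLinearGroup (Fin 2) F)) ∨
    Cfsg.Lie.IsoSuzuki G ∨
    (∃ (F : Type) (_ : Field F) (_ : Fintype F) (n : ℕ), 1 ≤ n ∧ Fintype.card F = (2 ^ n) ^ 2 ∧
      Nonempty (G ≃* Cfsg.PSU 3 F (2 ^ n))) ∨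
    Cfsg.Spor.IsoM11 G ∨ Cfsg.Spor.IsoJ1 G

variable {G} [Finite G] [IsSimpleGroup G]

/-- A strongly embedded subgroup gives a listed group. -/
theorem listed_of_se {H : Subgroup G} (hH : IsStronglyEmbedded H) : Listed G := by
  rcases CfsgLib.Bender.isBenderGroup_of_stronglyEmbedded
    (CfsgLib.Bender.Assembly.benderHyp CfsgLib.Bender.Assembly.goodAll) CfsgLib.Bender.Assembly.suzukiHyp hH with
    ⟨F, iF, iFt, ⟨n, hn, hc⟩, e⟩ | h | ⟨F, iF, iFt, n, hn, hc, e⟩
  · refine Or.inl ⟨F, iF, iFt, ?_, e⟩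
    have := Nat.pow_le_pow_right (show 0 < 2 by norm_num) hn
    omega
  · exact Or.inr (Or.inl h)
  · exact Or.inr (Or.inr (Or.inl ⟨F, iF, iFt, n, by omega, hc, e⟩))

/-- Rank at most two. -/
theorem listed_of_low (hG : ¬ IsMulCommutative G) {S : Sylow 2 G} {M : Subgroup G} (C : Core S M)
    (h2 : PRankLE 2 2 G) : Listed G := by
  rcases Cfsg.Agent.S0482.result hG h2 with ⟨F, iF, iFt, -, h5, e⟩ | ⟨F, iF, iFt, hodd, ⟨e⟩⟩ |
    ⟨F, iF, iFt, q, hc, hq, ⟨e⟩⟩ | ⟨F, iF, iFt, hc, e⟩ | ⟨⟨e⟩⟩ | hM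
  · exact Or.inl ⟨F, iF, iFt, by omega, e⟩
  · refine (LinThree.not_core (F := F) ?_ C (π := e.symm.toMonoidHom.comp (QuotientGroup.mk' _))
      (e.symm.surjective.comp (QuotientGroup.mk'_surjective _))
      fun a h => (QuotientGroup.eq_one_iff a).mp (e.symm.injective (h.trans (map_one e.symm).symm))).elim
    refine Ring.two_ne_zero fun e2 => ?_
    have h1 := FiniteField.even_card_iff_char_two.mp e2
    rw [Nat.odd_iff] at hodd
    omega
  · exact (UnitThree.not_core hc hq C (π := e.symm.toMonoidHom.comp (QuotientGroup.mk' _))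
      (e.symm.surjective.comp (QuotientGroup.mk'_surjective _))
      fun a h => (QuotientGroup.eq_one_iff a).mp (e.symm.injective (h.trans (map_one e.symm).symm))).elim
  · exact Or.inr (Or.inr (Or.inl ⟨F, iF, iFt, 2, by norm_num, by rw [hc]; norm_num, e⟩))
  · exact (AltSeven.false C e).elim
  · haveI := Fintype.ofFinite G
    exact Or.inr (Or.inr (Or.inr (Or.inl (CfsgSimpleM11.unique7920 hM CfsgM11Det.isM11_spor))))

/-- A simple group with a proper 2-generated core is listed. -/
theorem listed_of_core (hG : ¬ IsMulCommutative G) (hc : HasProperTwoGeneratedCore G) : Listed G := by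
  obtain ⟨S, M, C⟩ := core_of_proper hc
  by_cases h2 : PRankLE 2 2 G
  · exact listed_of_low hG C h2
  rcases high_rank hG C h2 with ⟨H, hH⟩ | ⟨hab, hall⟩
  · exact listed_of_se hH
  · rcases abelian_cases C hG hab hall with h | h
    · exact Or.inl h
    · exact Or.inr (Or.inr (Or.inr (Or.inr h)))

end CfsgLib.ProperCore
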