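import Cfsg.Agent.Lib.ProperCore.Basic
import Cfsg.Agent.Lib.CoreKill.Fail.Outcome
import Cfsg.Agent.Lib.CoreKill.Fail.Twin.Balance
import Cfsg.Agent.Lib.CoreKill.Rows

/-!
The local outcome at a bad involution with the twin kept, and what the exceptional outcome gives in a simple group.

Blueprint: `blueprint/S1728.md`, 2.
-/

set_option autoImplicit false
set_option linter.unusedSectionVars false
set_option linter.style.haveILetI false

universe u

namespace CfsgLib.ProperCore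

open Cfsg Subgroup
open CfsgLib.Bender.TwoClosed (IsInv)
open CfsgLib.Bender.Assembly (orderOf_two isInv_of_orderOf)
open CfsgLib.CoreKill (zpowers_inv)
open CfsgLib.CoreKill.Local

section Local

variable {X : Type u} [Group X] [Finite X] {H : Subgroup X} {P : Sylow 2 X} {t : X}

/-- The failure outcome: one class of members, balance, and a twin whose two groups `P` permutes. -/
structure Full (H : Subgroup X) (P : Sylow 2 X) (t : X) : Prop where
  wide : Wide H P t
  eightOver : Over P t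
  twin : ∃ R C : Subgroup X, Twin H P t R C ∧
    ∀ x ∈ (P : Subgroup X), x ∈ normalizer (R : Set X) ∨ ∀ r ∈ R, x * r * x⁻¹ ∈ C

/-- The outcome at a bad involution. -/
theorem outcome (h : Pt H P t) : Struct H P t ∨ (Pairs P t ∧ SquaresEq t) ∨ Full H P t := by
  obtain ⟨y, hy⟩ := h.exists_y
  by_cases hNF : NF H y
  · rcases h.dichotomy hy hNF with h1 | h1
    · exact Or.inl h1
    · exact Or.inr (Or.inl h1)
  obtain ⟨s, hs⟩ := h.exists_world hy hNF
  by_cases hno : ∀ r, World H t r → ¬ (P : Subgroup X) ≤ Subgroup.normalizer (Subgroup.zpowers r : Set X)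
  · obtain ⟨r, hr, -⟩ := exists_seat h hs
    obtain ⟨g, C, E⟩ := exists_exch h hr hno
    have T := E.twin h hno
    have h1 := Twin.oneClass h T
    obtain ⟨hb, hrig⟩ := Twin.bal_rigid h T h1
    refine Or.inr (Or.inr ⟨⟨Twin.noCentral h T, h1, hb, hrig⟩, E.overEight h hno, _, C, T, fun x hx => ?_⟩)
    rcases E.coset_of_sub h hno hx (E.sub_T h hno (E.seat.conj_self h hx) fun z hz y =>
      E.normal_T h hno (Subgroup.mem_inf.mp (Subgroup.mem_inf.mp hz).1).1 y) with e | e
    · exact Or.inl (E.seat.R_normal h e)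
    · refine Or.inr fun a ha => ?_
      rw [← E.eq, Seat.mem_seatR_self h E.seat.world E.g_mem,
        show g⁻¹ * (x * a * x⁻¹) * g = g⁻¹ * x * a * (g⁻¹ * x)⁻¹ by group]
      exact (Subgroup.mem_normalizer_iff.mp (E.seat.R_normal h e) a).mp ha
  · push Not at hno
    obtain ⟨r, hr, hP⟩ := hno
    exact Or.inr (Or.inl (h.pairs_of_normal_world hr hP))

end Local

variable {G : Type u} [Group G] [Finite G] [IsSimpleGroup G] (hG : ¬ IsMulCommutative G)
include hG

/-- An involution of a simple group commutes with another conjugate of itself. -/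
theorem not_isolated {t : G} (ht : IsInv t) : ∃ g : G, Commute t (g * t * g⁻¹) ∧ g * t * g⁻¹ ≠ t := by
  by_contra hcon
  push Not at hcon
  have hO := CoreKill.oddCore_eq_bot_of_simple hG
  have hc : ∀ g : G, g * t * g⁻¹ = t := fun g => by
    have h1 : g * t * g⁻¹ * t⁻¹ ∈ oddCore G := ZStar.inZStar (orderOf_two ht) hcon g
    rw [hO, Subgroup.mem_bot] at h1
    exact mul_inv_eq_one.mp h1
  have hz : t ∈ Subgroup.center G := Subgroup.mem_center_iff.mpr fun g => mul_inv_eq_iff_eq_mul.mp (hc g)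
  rcases (inferInstance : (Subgroup.center G).Normal).eq_bot_or_eq_top with e | e
  · exact ht.1 (Subgroup.mem_bot.mp (e ▸ hz))
  · exact hG ⟨⟨fun a b => Subgroup.mem_center_iff.mp (e ▸ Subgroup.mem_top b) a⟩⟩

/-- Some member of a Sylow subgroup of the centralizer of `t` is conjugate to `t`. -/
theorem exists_member_conj {t : G} (ht : IsInv t) (P : Sylow 2 ↥(centralizer ({t} : Set G))) :
    ∃ (k : G) (v : ↥(centralizer ({t} : Set G))), v ∈ (P : Subgroup _) ∧ IsInv v ∧ v ≠ inCent t ∧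
      (v : G) = k * t * k⁻¹ := by
  haveI : Fact (Nat.Prime 2) := ⟨Nat.prime_two⟩
  obtain ⟨g, hg, hne⟩ := not_isolated hG ht
  let w : ↥(centralizer ({t} : Set G)) := ⟨g * t * g⁻¹, Subgroup.mem_centralizer_singleton_iff.mpr hg.eq.symm⟩
  have hw : IsInv w := isInv_sub.mpr (ht.conj g)
  obtain ⟨c, -, hcP⟩ := Bender.Q.exists_conj_sylow (S := P) le_top (zpowers_inv hw) le_top
  refine ⟨(c : G) * g, c * w * c⁻¹, hcP w (mem_zpowers w), hw.conj c, fun e => hne ?_, ?_⟩
  · have h1 : w = inCent t := by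
      calc w = c⁻¹ * (c * w * c⁻¹) * c := by group
        _ = inCent t := by rw [e, (inCent_comm c⁻¹).eq, mul_assoc, inv_mul_cancel, mul_one]
    exact congrArg Subtype.val h1
  · show (c : G) * (g * t * g⁻¹) * (c : G)⁻¹ = _
    group

/-- The exceptional outcome does not occur in a simple group. -/
theorem false_of_pairs {t : G} (ht : IsInv t) (P : Sylow 2 ↥(centralizer ({t} : Set G)))
    (hp : Pairs P (inCent t)) (hsq : SquaresEq (inCent t)) : False := by
  obtain ⟨k, v, hv, hvi, hvt, hk⟩ := exists_member_conj hG ht P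
  obtain ⟨p, q, hp1, hq1, hpu, hqu, hpq⟩ := hp _ hv hvi hvt
  have hmem : ∀ r : ↥(centralizer ({t} : Set G)), Commute r v → k⁻¹ * (r : G) * k⁻¹⁻¹ ∈ centralizer ({t} : Set G) := by
    intro r hr
    have h1 : (r : G) * (k * t * k⁻¹) = k * t * k⁻¹ * r := by
      rw [← hk]
      exact congrArg Subtype.val hr.eq
    refine Subgroup.mem_centralizer_singleton_iff.mpr ?_
    calc k⁻¹ * (r : G) * k⁻¹⁻¹ * t = k⁻¹ * ((r : G) * (k * t * k⁻¹)) * k := by group
      _ = k⁻¹ * (k * t * k⁻¹ * r) * k := by rw [h1]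
      _ = t * (k⁻¹ * (r : G) * k⁻¹⁻¹) := by group
  let p' : ↥(centralizer ({t} : Set G)) := ⟨_, hmem p hpu⟩
  let q' : ↥(centralizer ({t} : Set G)) := ⟨_, hmem q hqu⟩
  have hpq' : (p : G) * q * ((p : G) * q) = t := congrArg Subtype.val hpq
  have hsq' : ((p' * q' * (p' * q') : ↥(centralizer ({t} : Set G))) : G) = k⁻¹ * t * k⁻¹⁻¹ := by
    show (k⁻¹ * (p : G) * k⁻¹⁻¹) * (k⁻¹ * (q : G) * k⁻¹⁻¹) *
      ((k⁻¹ * (p : G) * k⁻¹⁻¹) * (k⁻¹ * (q : G) * k⁻¹⁻¹)) = _
    calc _ = k⁻¹ * ((p : G) * q * ((p : G) * q)) * k⁻¹⁻¹ := by group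
      _ = _ := by rw [hpq']
  have h1 := hsq p' q' (isInv_sub.mpr ((isInv_sub.mp hp1).conj k⁻¹)) (isInv_sub.mpr ((isInv_sub.mp hq1).conj k⁻¹))
    (isInv_sub.mpr (hsq'.symm ▸ ht.conj k⁻¹))
  have h2 : k⁻¹ * t * k⁻¹⁻¹ = t := hsq'.symm.trans (congrArg Subtype.val h1)
  refine hvt (Subtype.ext (hk.trans ?_))
  show k * t * k⁻¹ = t
  calc k * t * k⁻¹ = k * (k⁻¹ * t * k⁻¹⁻¹) * k⁻¹ := by rw [h2]
    _ = t := by group

end CfsgLib.ProperCore
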