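import Cfsg.Agent.Lib.ProperCore.Outcome

/-!
A twin with trivial odd core: only `1` and `t` fix every point, `R` is the pointwise stabiliser in `N(<r>)` of the five
points fixed by `r`, and the base point stabiliser of `N(<r>)` normalises `C`.

Blueprint: `blueprint/S1728.md`, 2.
-/

set_option autoImplicit false
set_option linter.unusedSectionVars false
set_option linter.style.haveILetI false

universe u

namespace CfsgLib.ProperCore

open Cfsg Subgroup MulAction
open CfsgLib.Bender.TwoClosed (IsInv)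
open CfsgLib.CoreKill.Local
open CfsgLib.Bender.Q (mem_normalCore_of_fix)

variable {X : Type u} [Group X] [Finite X] {H : Subgroup X} {P : Sylow 2 X} {t : X} {R C : Subgroup X}

namespace Twin'

variable (h : Pt H P t) (T : Twin H P t R C) (hO : oddCore X = ⊥)
include h T hO

/-- Only `1` and `t` fix every point. -/
theorem core_trivial {x : X} (hx : ∀ p : X ⧸ H, x • p = p) : x = 1 ∨ x = t := by
  haveI : Fact (Nat.Prime 2) := ⟨Nat.prime_two⟩
  haveI : H.normalCore.Normal := Subgroup.normalCore_normal _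
  have hxK : x ∈ H.normalCore := mem_normalCore_of_fix hx
  obtain ⟨k, m, hm, hkm⟩ := Nat.exists_eq_two_pow_mul_odd (orderOf_pos x).ne'
  have h1 : x ^ 2 ^ k = 1 := by
    have ho : Odd (orderOf (x ^ 2 ^ k)) := hm.of_dvd_nat (orderOf_dvd_of_pow_eq_one (by
      rw [← pow_mul, ← hkm, pow_orderOf_eq_one]))
    have h2 := T.kernel_odd h (pow_mem hxK _) ho
    rwa [hO, Subgroup.mem_bot] at h2
  have hU : IsPGroup 2 ↥(zpowers x) := by
    obtain ⟨i, -, hi⟩ := (Nat.dvd_prime_pow Nat.prime_two).mp (orderOf_dvd_of_pow_eq_one h1)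
    exact IsPGroup.of_card (n := i) (by rw [Nat.card_zpowers, hi])
  obtain ⟨c, -, hc⟩ := Bender.Q.exists_conj_sylow (S := P) le_top hU le_top
  have e := T.kernel_sylow h (hc x (mem_zpowers x)) ((inferInstance : H.normalCore.Normal).conj_mem x hxK c)
  rw [show x = c⁻¹ * (c * x * c⁻¹) * c by group]
  rcases e with e | e <;> rw [e]
  · exact Or.inl (by group)
  · exact Or.inr (by rw [mul_assoc, ← (h.central c).eq, inv_mul_cancel_left])

variable {r : X} (hr : r ∈ R) (hr1 : r ≠ 1) (hrt : r ≠ t)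
include hr hr1 hrt

local notation "N" => Subgroup.normalizer (Subgroup.zpowers r : Set X)

omit hO in
theorem R_le_N : R ≤ N := fun _ hx => h.mem_normalizer (T.r_sq h hr hr1 hrt) (T.R_mod h hr hx)

omit hO in
theorem C_le_N : C ≤ N := fun _ hx => h.mem_normalizer (T.r_sq h hr hr1 hrt) (T.C_mod h hr hx)

/-- The pointwise stabiliser of the fixed points of `r` in `N(<r>)` is `R`. -/
theorem fixer {x : X} (hxN : x ∈ N) (hxD : ∀ p ∈ fixSet H r, x • p = p) : x ∈ R := by
  haveI : Fact (Nat.Prime 2) := ⟨Nat.prime_two⟩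
  have hr2 := T.r_sq h hr hr1 hrt
  let K : Subgroup X := N ⊓ fixAll H (fixSet H r)
  have hmem : ∀ {y : X}, y ∈ K ↔ y ∈ N ∧ ∀ p ∈ fixSet H r, y • p = p := fun {y} => by
    simp only [K, Subgroup.mem_inf, mem_fixAll]
  have hK2 : IsPGroup 2 ↥K := by
    intro y
    obtain ⟨k, m, hm, hkm⟩ := Nat.exists_eq_two_pow_mul_odd (orderOf_pos (y : X)).ne'
    refine ⟨k, Subtype.ext ?_⟩
    rw [SubmonoidClass.coe_pow]
    set w := (y : X) ^ 2 ^ k with hw
    have ho : Odd (orderOf w) := hm.of_dvd_nat (orderOf_dvd_of_pow_eq_one (by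
      rw [hw, ← pow_mul, ← hkm, pow_orderOf_eq_one]))
    have hwK : w ∈ K := pow_mem y.2 _
    have hc : Commute w r := by
      rcases h.conj_eq hr2 (hmem.mp hwK).1 with e | e
      · exact mul_inv_eq_iff_eq_mul.mp e
      exfalso
      have he : ∀ i : ℕ, w ^ i * r * (w ^ i)⁻¹ = r * t ^ i := by
        intro i
        induction i with
        | zero => simp
        | succ i ih =>
          calc w ^ (i + 1) * r * (w ^ (i + 1))⁻¹ = w * (w ^ i * r * (w ^ i)⁻¹) * w⁻¹ := by rw [pow_succ']; group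
            _ = (w * r * w⁻¹) * (w * t ^ i * w⁻¹) := by rw [ih]; group
            _ = r * t * t ^ i := by rw [e, ((h.central w).pow_right i).eq, mul_inv_cancel_right]
            _ = r * t ^ (i + 1) := by rw [mul_assoc, ← pow_succ']
      have h2 := he (orderOf w)
      obtain ⟨l, hl⟩ := ho
      rw [pow_orderOf_eq_one, hl, pow_succ, pow_mul, pow_two, h.inv.2, one_pow, one_mul, inv_one, mul_one, one_mul] at h2
      exact h.inv.1 (mul_eq_left.mp h2.symm)
    have h2 := T.line_core h hr hr1 hrt ho hc (hmem.mp hwK).2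
    rw [hO, Subgroup.mem_bot] at h2
    exact h2
  obtain ⟨m, hmN, hmH, hm⟩ := T.kernel_conj h hr hr1 hrt hK2 inf_le_left
    (fun y hy => fix_base.mp ((hmem.mp hy).2 _ (T.base_mem h hr))) fun y hy => (hmem.mp hy).2
  have hRK : R ≤ K := fun y hy => hmem.mpr ⟨R_le_N h T hr hr1 hrt hy, fun p hp => T.fixR h hr hr1 hrt hy hp⟩
  -- `m` normalises `K`, so `K = R`
  have hx : x ∈ K := hmem.mpr ⟨hxN, hxD⟩
  have hback : m⁻¹ * x * m ∈ K := hmem.mpr ⟨mul_mem (mul_mem (inv_mem hmN) hxN) hmN, fun p hp => by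
    rw [mul_smul, mul_smul, hxD _ ((T.fixSet_N h hr hr1 hrt hmN).mp hp), inv_smul_smul]⟩
  have h3 := hm _ hback
  rwa [show m * (m⁻¹ * x * m) * m⁻¹ = x by group] at h3

/-- `N(<r>)` normalises `R`. -/
theorem normal_R {n : X} (hn : n ∈ N) {x : X} (hx : x ∈ R) : n * x * n⁻¹ ∈ R :=
  fixer h T hO hr hr1 hrt (mul_mem (mul_mem hn (R_le_N h T hr hr1 hrt hx)) (inv_mem hn)) fun p hp => by
    rw [mul_smul, mul_smul, mem_fixSet.mp (T.fixR h hr hr1 hrt hx ((T.fixSet_N h hr hr1 hrt (inv_mem hn)).mp hp)),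
      smul_inv_smul]

/-- `N(<r>) ∩ H` normalises `C`. -/
theorem normal_C {n : X} (hn : n ∈ N) (hnH : n ∈ H) {x : X} (hx : x ∈ C) : n * x * n⁻¹ ∈ C := by
  obtain ⟨htC, hC8, hCsq, hCanti⟩ := T.C_facts h
  by_cases hx1 : x = 1
  · simp [hx1]
  by_cases hxt : x = t
  · rwa [hxt, (h.central n).eq, mul_inv_cancel_right]
  have hr2 := T.r_sq h hr hr1 hrt
  set y := n * x * n⁻¹ with hy
  have hy2 : y * y = t := by
    rw [hy, show n * x * n⁻¹ * (n * x * n⁻¹) = n * (x * x) * n⁻¹ by group, hCsq x hx hx1 hxt, (h.central n).eq,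
      mul_inv_cancel_right]
  have hyR : ∀ z ∈ R, Commute y z := fun z hz => by
    have h1 := T.comm x hx _ (normal_R h T hO hr hr1 hrt (inv_mem hn) hz)
    rw [inv_inv] at h1
    show y * z = z * y
    calc y * z = n * (x * (n⁻¹ * z * n)) * n⁻¹ := by rw [hy]; group
      _ = n * ((n⁻¹ * z * n) * x) * n⁻¹ := by rw [h1.eq]
      _ = z * y := by rw [hy]; group
  have hyH : y ∈ H := mul_mem (mul_mem hnH (T.C_mem_H h hx)) (inv_mem hnH)
  have hyN : y ∈ N := mul_mem (mul_mem hn (C_le_N h T hr hr1 hrt hx)) (inv_mem hn)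
  have hyS : ∀ q ∈ fixSet H r, y • q ∈ fixSet H r := fun q hq => (T.fixSet_N h hr hr1 hrt hyN).mp hq
  have hy0 : y • base H = base H := fix_base.mpr hyH
  have hn0 : n • base H = base H := fix_base.mpr hnH
  have hyfix : ∀ q ∈ fixSet H r, y • q = q → q = base H := fun q hq e => by
    have h1 : x • (n⁻¹ • q) = n⁻¹ • q := by
      refine smul_left_cancel n ?_
      rw [smul_inv_smul]
      conv_rhs => rw [← e, hy, mul_smul, mul_smul]
    have h2 := T.eq_base h hr hx hr2 (hCsq x hx hx1 hxt) ((T.fixSet_N h hr hr1 hrt (inv_mem hn)).mp hq) h1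
    rw [← smul_inv_smul n q, h2, hn0]
  obtain ⟨p, hp, hp0⟩ : ∃ p ∈ fixSet H r, p ≠ base H := by
    by_contra hall
    push Not at hall
    have h2 := Set.ncard_le_ncard (show fixSet H r ⊆ {base H} from fun p hp => hall p hp) (Set.toFinite _)
    rw [T.card_fix h hr hr1 hrt, Set.ncard_singleton] at h2
    omega
  obtain ⟨c, hc, hc1, hct, hcp⟩ := T.exists_regular h hr hr1 hrt hp hp0 (hyS p hp)
    (fun e => hp0 (smul_left_cancel y (e.trans hy0.symm))) fun e => hp0 (hyfix p hp e)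
  have hsq : ∀ {z : X}, z * z = t → ∀ q : X ⧸ H, z • z • q = q := fun {z} hz q => by rw [← mul_smul, hz, h.t_fix]
  have hagree := five_eq (T.card_fix h hr hr1 hrt) (T.base_mem h hr) hyS hy0 (fun q _ => hsq hy2 q) hyfix (e := c)
    (fun q hq => (fixSet_move h (T.C_mod h hr hc)).mp hq) (fix_base.mpr (T.C_mem_H h hc))
    (fun q _ => hsq (hCsq c hc hc1 hct) q)
    (fun q hq e => T.eq_base h hr hc hr2 (hCsq c hc hc1 hct) hq e) hp hp0 hcp
  have hz : c⁻¹ * y ∈ R := fixer h T hO hr hr1 hrt (mul_mem (inv_mem (C_le_N h T hr hr1 hrt hc)) hyN) fun q hq => by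
    rw [mul_smul, ← hagree q hq, inv_smul_smul]
  have hcent : ∀ a ∈ R, Commute (c⁻¹ * y) a := fun a ha => ((T.comm c hc a ha).inv_left).mul_left (hyR a ha)
  have hz1 : c⁻¹ * y = 1 ∨ c⁻¹ * y = t := by
    by_contra hno
    push Not at hno
    obtain ⟨w, hw, hw1, hwt, hwz, hwzt⟩ := T.exists_other h T.card (c⁻¹ * y)
    have h1 := T.anti _ hz w hw hno.1 hno.2 hw1 hwt hwz hwzt
    rw [(hcent w hw).eq] at h1
    exact h.inv.1 (mul_eq_left.mp h1.symm)
  rw [show y = c * (c⁻¹ * y) by group]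
  rcases hz1 with e | e <;> rw [e]
  exacts [mul_mem hc (one_mem C), mul_mem hc htC]

/-- `N(<r>) ∩ H` keeps the line of `C`. -/
theorem keep_line {n : X} (hn : n ∈ N) (hnH : n ∈ H) {c : X} (hc : c ∈ C) (hc1 : c ≠ 1) (hct : c ≠ t) {p : X ⧸ H}
    (hp : p ∈ fixSet H c) : n • p ∈ fixSet H c := by
  have h1 : n * c * n⁻¹ ≠ 1 := fun e => hc1 (conj_eq_one_iff.mp e)
  rw [T.fixC_eq h hc hc1 hct (normal_C h T hO hr hr1 hrt hn hnH hc) h1 (h.ne_conj hct n), fixSet_conj, inv_smul_smul]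
  exact hp

end Twin'

end CfsgLib.ProperCore
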