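import Cfsg.Agent.Lib.ProperCore.TwinBase

/-!
The two cases of a twin: either every point is on the two lines, or no member exchanges `R` and `C`, and then an
involution that is the square of a product of two involutions is `t` and every member has two partners.

Blueprint: `blueprint/S1728.md`, 2.
-/

set_option autoImplicit false
set_option linter.unusedSectionVars false
set_option linter.style.haveILetI false

universe u

namespace CfsgLib.ProperCore

open Cfsg Subgroup MulAction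
open CfsgLib.Bender.TwoClosed (IsInv)
open CfsgLib.CoreKill.Local
open CfsgLib.CoreKill (zpowers_inv)

variable {X : Type u} [Group X] [Finite X] {H : Subgroup X} {P : Sylow 2 X} {t : X} {R C : Subgroup X}

namespace Twin'

variable (h : Pt H P t) (T : Twin H P t R C) (hO : oddCore X = ⊥)
include h T hO

section Lines

variable {r : X} (hr : r ∈ R) (hr1 : r ≠ 1) (hrt : r ≠ t) {c : X} (hc : c ∈ C) (hc1 : c ≠ 1) (hct : c ≠ t)
include hr hr1 hrt hc hc1 hct

local notation "N" => Subgroup.normalizer (Subgroup.zpowers r : Set X)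

omit hO in
/-- The line of `C` is fixed by `C`. -/
theorem fix_C {x : X} (hx : x ∈ C) {p : X ⧸ H} (hp : p ∈ fixSet H c) : x • p = p := by
  by_cases h1 : x = 1
  · rw [h1, one_smul]
  by_cases h2 : x = t
  · rw [h2, h.t_fix]
  rw [T.fixC_eq h hc hc1 hct hx h1 h2] at hp
  exact hp

omit hO in
/-- `R` keeps the line of `C`. -/
theorem keep_R {x : X} (hx : x ∈ R) {p : X ⧸ H} (hp : p ∈ fixSet H c) : x • p ∈ fixSet H c :=
  (fixSet_move h (Or.inl (mul_inv_eq_iff_eq_mul.mpr (T.comm c hc x hx).eq.symm))).mp hp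

omit hO in
/-- `R` is transitive on the other points of the line of `C`. -/
theorem reg_R {p q : X ⧸ H} (hp : p ∈ fixSet H c) (hp0 : p ≠ base H) (hq : q ∈ fixSet H c) (hq0 : q ≠ base H) :
    ∃ x ∈ R, x • p = q := by
  by_cases e : q = p
  · exact ⟨1, one_mem R, by rw [one_smul, e]⟩
  obtain ⟨g, hgP, hgR, hgC⟩ := T.swap
  have hr₀ : g * c * g⁻¹ ∈ R := (hgC c).mp hc
  have hg0 : g • base H = base H := fix_base.mpr (h.P_le hgP)
  have hmove : ∀ {z : X ⧸ H}, z ∈ fixSet H c → g • z ∈ fixSet H (g * c * g⁻¹) := fun {z} hz => by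
    rwa [fixSet_conj, inv_smul_smul]
  obtain ⟨x, hx, -, -, hxe⟩ := T.exists_regular h hr₀ (fun e' => hc1 (conj_eq_one_iff.mp e')) (h.ne_conj hct g)
    (hmove hp) (fun e' => hp0 (smul_left_cancel g (e'.trans hg0.symm)))
    (hmove hq) (fun e' => hq0 (smul_left_cancel g (e'.trans hg0.symm))) fun e' => e (smul_left_cancel g e')
  refine ⟨g⁻¹ * x * g, (hgR _).mpr (by rwa [show g * (g⁻¹ * x * g) * g⁻¹ = x by group]), ?_⟩
  rw [mul_smul, mul_smul, hxe, inv_smul_smul]

omit hO in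
/-- `C` is transitive on the other points of the line of `R`. -/
theorem reg_C {p q : X ⧸ H} (hp : p ∈ fixSet H r) (hp0 : p ≠ base H) (hq : q ∈ fixSet H r) (hq0 : q ≠ base H) :
    ∃ x ∈ C, x • p = q := by
  by_cases e : q = p
  · exact ⟨1, one_mem C, by rw [one_smul, e]⟩
  obtain ⟨x, hx, -, -, hxe⟩ := T.exists_regular h hr hr1 hrt hp hp0 hq hq0 e
  exact ⟨x, hx, hxe⟩

omit hO in
/-- The lines meet in the base point. -/
theorem inter {p : X ⧸ H} (hp : p ∈ fixSet H r) (hp' : p ∈ fixSet H c) : p = base H :=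
  T.eq_base h hr hc (T.r_sq h hr hr1 hrt) ((T.C_facts h).2.2.1 c hc hc1 hct) hp hp'

/-- Some translate of the line of `C` meets it again. -/
def Shared (H : Subgroup X) (r c : X) : Prop :=
  ∃ n ∈ Subgroup.normalizer (Subgroup.zpowers r : Set X), n ∉ H ∧
    ∃ b ∈ fixSet H c, b ≠ base H ∧ n • b ∈ fixSet H c

/-- If a translate meets the line again, every point is on one of the two lines. -/
theorem nine_cover (hs : Shared H r c) (p : X ⧸ H) : p ∈ fixSet H r ∨ p ∈ fixSet H c := by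
  obtain ⟨n, hn, hnH, b, hb, hb0, hnb⟩ := hs
  by_cases hp : p ∈ fixSet H r
  · exact Or.inl hp
  refine Or.inr ?_
  obtain ⟨m, hm, hmp⟩ := T.cover h hr hr1 hrt hp
  have hb' := hmp c hc hc1 hct
  by_cases hmH : m ∈ H
  · have h1 := keep_line h T hO hr hr1 hrt hm hmH hc hc1 hct hb'
    rwa [smul_inv_smul] at h1
  have hbase : ∀ {x : X}, x ∈ N → x • base H ∈ fixSet H r := fun hx =>
    (T.fixSet_N h hr hr1 hrt hx).mp (T.base_mem h hr)
  obtain ⟨x, hx, hxe⟩ := reg_C h T hr hr1 hrt hc hc1 hct (hbase hn) (fun e => hnH (fix_base.mp e)) (hbase hm)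
    fun e => hmH (fix_base.mp e)
  set n' := x * n
  have hn' : n' ∈ N := mul_mem (C_le_N h T hr hr1 hrt hx) hn
  have hn'b : n' • b = n • b := by rw [mul_smul, fix_C h T hr hr1 hrt hc hc1 hct hx hnb]
  have hk : n'⁻¹ * m ∈ H := fix_base.mp (by rw [mul_smul, ← hxe, ← mul_smul, ← mul_smul]; simp [n'])
  have hkN : n'⁻¹ * m ∈ N := mul_mem (inv_mem hn') hm
  obtain ⟨y, hy, hye⟩ := reg_R h T hr hr1 hrt hc hc1 hct hb hb0 (keep_line h T hO hr hr1 hrt hkN hk hc hc1 hct hb')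
    (fun e => hp (by
      have h1 : (n'⁻¹ * m) • base H = base H := fix_base.mpr hk
      have h2 : m⁻¹ • p = base H := smul_left_cancel _ (e.trans h1.symm)
      rw [← smul_inv_smul m p, h2]
      exact hbase hm))
  have h1 : (n' * y * n'⁻¹) • n • b = p := by
    rw [← hn'b, mul_smul, mul_smul, inv_smul_smul, hye, ← mul_smul, mul_inv_cancel_left, smul_inv_smul]
  rw [← h1]
  exact keep_R h T hr hr1 hrt hc hc1 hct (normal_R h T hO hr hr1 hrt hn' hy) hnb

/-- If no translate meets the line again, no member exchanges `R` and `C`. -/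
theorem no_swap (hs : ¬ Shared H r c) {v : X} (hvH : v ∈ H) (hv : IsInv v) (hvt : v ≠ t)
    (hsw : ∀ x ∈ R, v * x * v⁻¹ ∈ C) : False := by
  obtain ⟨htC, hC8, -, -⟩ := T.C_facts h
  have hsw' : ∀ y ∈ C, v * y * v⁻¹ ∈ R := by
    intro y hy
    have e : R.map (MulAut.conj v).toMonoidHom = C := Subgroup.eq_of_le_of_card_ge
      (by rintro _ ⟨x, hx, rfl⟩; exact hsw x hx)
      (le_of_eq (by rw [hC8, Subgroup.card_map_of_injective (MulAut.conj v).injective, T.card]))
    rw [← e] at hy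
    obtain ⟨x, hx, rfl⟩ := hy
    show v * (v * x * v⁻¹) * v⁻¹ ∈ R
    rwa [show v * (v * x * v⁻¹) * v⁻¹ = (v * v) * x * (v * v)⁻¹ by group, hv.2, one_mul, inv_one, mul_one]
  have hvv : ∀ q : X ⧸ H, v • v • q = q := fun q => by rw [← mul_smul, hv.2, one_smul]
  have hline : fixSet H (v * r * v⁻¹) = fixSet H c :=
    T.fixC_eq h (hsw r hr) (fun e => hr1 (conj_eq_one_iff.mp e)) (h.ne_conj hrt v) hc hc1 hct
  have hvD : ∀ q, q ∈ fixSet H r ↔ v • q ∈ fixSet H c := fun q => by rw [← hline, fixSet_conj, inv_smul_smul]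
  have hbase : ∀ {x : X}, x ∈ N → x • base H ∈ fixSet H r := fun hx =>
    (T.fixSet_N h hr hr1 hrt hx).mp (T.base_mem h hr)
  obtain ⟨n, hn, hnH⟩ := (T.quat h r hr hr1 hrt).1.exists_move h
  obtain ⟨b, hb, hb0⟩ : ∃ b ∈ fixSet H c, b ≠ base H := by
    by_contra hall
    push Not at hall
    have h2 := Set.ncard_le_ncard (show fixSet H c ⊆ {base H} from fun p hp => hall p hp) (Set.toFinite _)
    rw [T.card_fixC h hc hc1 hct, Set.ncard_singleton] at h2
    omega
  set p := n • b with hp_def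
  have hp : p ∉ fixSet H r := fun hp => hb0 (inter h T hr hr1 hrt hc hc1 hct
    ((T.fixSet_N h hr hr1 hrt hn).mpr hp) hb)
  have hp' : p ∉ fixSet H c := fun hp' => hs ⟨n, hn, hnH, b, hb, hb0, hp'⟩
  have hvp : v • p ∉ fixSet H r := fun e => hp' (by have := (hvD _).mp e; rwa [hvv] at this)
  obtain ⟨m, hm, hmp⟩ := T.cover h hr hr1 hrt hvp
  have hb' := hmp c hc hc1 hct
  have hmH : m ∉ H := fun hmH => hp ((hvD p).mpr (by
    have h1 := keep_line h T hO hr hr1 hrt hm hmH hc hc1 hct hb'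
    rwa [smul_inv_smul] at h1))
  obtain ⟨x, hx, hxe⟩ := reg_C h T hr hr1 hrt hc hc1 hct (hbase hm) (fun e => hmH (fix_base.mp e)) (hbase hn)
    fun e => hnH (fix_base.mp e)
  have hk : n⁻¹ * x * m ∈ H := fix_base.mp (by rw [mul_smul, mul_smul, hxe, inv_smul_smul])
  have hkN : n⁻¹ * x * m ∈ N := mul_mem (mul_mem (inv_mem hn) (C_le_N h T hr hr1 hrt hx)) hm
  set q := x • v • p with hq_def
  have hqb : n⁻¹ • q ∈ fixSet H c := by
    have h1 := keep_line h T hO hr hr1 hrt hkN hk hc hc1 hct hb'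
    rwa [mul_smul, mul_smul, smul_inv_smul] at h1
  have hq : q ∉ fixSet H r := fun hq => hvp ((fixSet_move h (T.C_mod h hr hx)).mpr hq)
  have hq0 : n⁻¹ • q ≠ base H := fun e => hq (by rw [← smul_inv_smul n q, e]; exact hbase hn)
  -- `v` keeps the block of `q`
  have hq' : q = x • v • p := rfl
  have hvq : v • q = (v * x * v⁻¹) • p := by
    rw [hq', hv.inv, mul_smul, mul_smul]
  obtain ⟨y, hy, hye⟩ := reg_R h T hr hr1 hrt hc hc1 hct hqb hq0 hb hb0
  set y' := n * y * n⁻¹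
  have hy' : y' • q = p := by rw [mul_smul, mul_smul, hye]
  set z := v * x * v⁻¹ * y' with hz_def
  have hz : z ∈ R := mul_mem (hsw' x hx) (normal_R h T hO hr hr1 hrt hn hy)
  have hzq : z • q = v • q := by rw [hvq, mul_smul, hy']
  have hvqb : n⁻¹ • v • q ∈ fixSet H c := by
    have h1 := keep_R h T hr hr1 hrt hc hc1 hct (normal_R h T hO hr hr1 hrt (inv_mem hn) hz) hqb
    rwa [inv_inv, mul_smul, mul_smul, smul_inv_smul, hzq] at h1
  -- `v q` and `q` differ by an element of `C`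
  set w := v * z * v⁻¹ with hw
  have hwC : w ∈ C := hsw z hz
  have hwq : w • v • q = q := by rw [hw, mul_smul, mul_smul, inv_smul_smul, hzq, hvv]
  have hwH : n⁻¹ * w * n ∈ H := by
    by_contra hno
    refine hs ⟨n⁻¹ * w * n, mul_mem (mul_mem (inv_mem hn) (C_le_N h T hr hr1 hrt hwC)) hn, hno, _, hvqb, fun e => ?_,
      ?_⟩
    · refine hvp ((fixSet_move h (T.C_mod h hr hx)).mpr ?_)
      show q ∈ fixSet H r
      have h1 : v • q ∈ fixSet H r := by rw [← smul_inv_smul n (v • q), e]; exact hbase hn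
      have h2 := (fixSet_move h (T.C_mod h hr hwC)).mp h1
      rwa [hwq] at h2
    · rwa [mul_smul, mul_smul, smul_inv_smul, hwq]
  have hw1 : w = 1 ∨ w = t := by
    by_contra hno
    push Not at hno
    refine hnH (fix_base.mp (T.eq_base h hr hwC (T.r_sq h hr hr1 hrt) ((T.C_facts h).2.2.1 w hwC hno.1 hno.2)
      (hbase hn) ?_))
    show w • n • base H = n • base H
    conv_rhs => rw [← fix_base.mpr hwH, ← mul_smul, show n * (n⁻¹ * w * n) = w * n by group, mul_smul]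
  have hfix : v • q = q := by
    rcases hw1 with e | e <;> rw [e] at hwq
    · rwa [one_smul] at hwq
    · rwa [h.t_fix] at hwq
  exact hq ((h.eq_of_fix hv hvt hfix (fix_base.mpr hvH)) ▸ T.base_mem h hr)

end Lines

section Spread

variable (hperm : ∀ x ∈ (P : Subgroup X), x ∈ Subgroup.normalizer (R : Set X) ∨ ∀ r ∈ R, x * r * x⁻¹ ∈ C)
  {r : X} (hr : r ∈ R) (hr1 : r ≠ 1) (hrt : r ≠ t) {c : X} (hc : c ∈ C) (hc1 : c ≠ 1) (hct : c ≠ t)
  (hs : ¬ Shared H r c)
include hperm hr hr1 hrt hc hc1 hct hs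

/-- Every involution of `P` other than `t` is the product of elements of square `t` from `R` and `C`. -/
theorem decomp {v : X} (hvP : v ∈ (P : Subgroup X)) (hv : IsInv v) (hvt : v ≠ t) :
    ∃ x ∈ R, ∃ y ∈ C, v = x * y ∧ x * x = t ∧ y * y = t := by
  rcases hperm v hvP with e | e
  · exact T.member v hvP hv hvt e
  · exact (no_swap h T hO hr hr1 hrt hc hc1 hct hs (h.P_le hvP) hv hvt e).elim

/-- An involution that is the square of a product of two involutions is `t`. -/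
theorem squaresEq : SquaresEq t := by
  haveI : Fact (Nat.Prime 2) := ⟨Nat.prime_two⟩
  obtain ⟨htC, -, hCsq, -⟩ := T.C_facts h
  intro p q hp hq hw
  set a := p * q with ha
  have ha4 : a ^ 2 ^ 2 = 1 := by
    rw [show (2 : ℕ) ^ 2 = 2 * 2 from rfl, pow_mul, pow_two a, pow_two]
    exact hw.2
  have hA : IsPGroup 2 ↥(zpowers a) := by
    obtain ⟨i, -, hi⟩ := (Nat.dvd_prime_pow Nat.prime_two).mp (orderOf_dvd_of_pow_eq_one ha4)
    exact IsPGroup.of_card (n := i) (by rw [Nat.card_zpowers, hi])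
  have hpa : p * a * p⁻¹ = a⁻¹ := by
    rw [ha, mul_inv_rev, hp.inv, hq.inv, ← mul_assoc, hp.2, one_mul]
  have hU : IsPGroup 2 ↥(zpowers a ⊔ zpowers p) := hA.to_sup_of_normal_left' (zpowers_inv hp)
    (zpowers_le.mpr (Subgroup.mem_normalizer_fintype fun z hz => by
      obtain ⟨i, rfl⟩ := mem_zpowers_iff.mp hz
      rw [← conj_zpow, hpa]
      exact zpow_mem (inv_mem (mem_zpowers a)) i))
  obtain ⟨k, -, hk⟩ := Bender.Q.exists_conj_sylow (S := P) le_top hU le_top
  have hp' := hk p (mem_sup_right (mem_zpowers p))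
  have hq' : k * q * k⁻¹ ∈ (P : Subgroup X) := hk q (by
    rw [show q = p * a by rw [ha, ← mul_assoc, hp.2, one_mul]]
    exact mul_mem (mem_sup_right (mem_zpowers p)) (mem_sup_left (mem_zpowers a)))
  have hpi := hp.conj k
  have hqi := hq.conj k
  have hw' := hw.conj k
  rw [show k * (p * q * (p * q)) * k⁻¹ =
    k * p * k⁻¹ * (k * q * k⁻¹) * (k * p * k⁻¹ * (k * q * k⁻¹)) by group] at hw'
  by_cases hpt : k * p * k⁻¹ = t
  · refine absurd ?_ hw'.1
    rw [hpt, (h.central (k * q * k⁻¹)).mul_mul_mul_comm, h.inv.2, hqi.2, one_mul]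
  by_cases hqt : k * q * k⁻¹ = t
  · refine absurd ?_ hw'.1
    rw [hqt, (h.central (k * p * k⁻¹)).symm.mul_mul_mul_comm, h.inv.2, hpi.2, one_mul]
  obtain ⟨x₁, hx₁, y₁, hy₁, e₁, -, -⟩ := decomp h T hO hperm hr hr1 hrt hc hc1 hct hs hp' hpi hpt
  obtain ⟨x₂, hx₂, y₂, hy₂, e₂, -, -⟩ := decomp h T hO hperm hr hr1 hrt hc hc1 hct hs hq' hqi hqt
  have hsq : ∀ {z : X}, (z = 1 ∨ z = t) → ∀ {z' : X}, (z' = 1 ∨ z' = t) → z * z' = 1 ∨ z * z' = t := by
    rintro z (rfl | rfl) z' (rfl | rfl) <;> simp [h.inv.2]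
  have hR2 : ∀ x ∈ R, x * x = 1 ∨ x * x = t := fun x hx => by
    by_cases h1 : x = 1
    · exact Or.inl (by rw [h1, one_mul])
    by_cases h2 : x = t
    · exact Or.inl (by rw [h2, h.inv.2])
    exact Or.inr (T.sq x hx h1 h2)
  have hC2 : ∀ x ∈ C, x * x = 1 ∨ x * x = t := fun x hx => by
    by_cases h1 : x = 1
    · exact Or.inl (by rw [h1, one_mul])
    by_cases h2 : x = t
    · exact Or.inl (by rw [h2, h.inv.2])
    exact Or.inr (hCsq x hx h1 h2)
  have hprod : k * p * k⁻¹ * (k * q * k⁻¹) = x₁ * x₂ * (y₁ * y₂) := by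
    rw [e₁, e₂, (T.comm y₁ hy₁ x₂ hx₂).mul_mul_mul_comm]
  have h1 : x₁ * x₂ * (y₁ * y₂) * (x₁ * x₂ * (y₁ * y₂)) = 1 ∨
      x₁ * x₂ * (y₁ * y₂) * (x₁ * x₂ * (y₁ * y₂)) = t := by
    rw [(T.comm _ (mul_mem hy₁ hy₂) _ (mul_mem hx₁ hx₂)).mul_mul_mul_comm]
    exact hsq (hR2 _ (mul_mem hx₁ hx₂)) (hC2 _ (mul_mem hy₁ hy₂))
  rw [hprod] at hw'
  have h2 := h1.resolve_left hw'.1
  rw [← hprod, show k * p * k⁻¹ * (k * q * k⁻¹) * (k * p * k⁻¹ * (k * q * k⁻¹)) =
    k * (p * q * (p * q)) * k⁻¹ by group] at h2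
  rw [show p * q * (p * q) = k⁻¹ * (k * (p * q * (p * q)) * k⁻¹) * k by group, h2, mul_assoc,
    ← (h.central k).eq, inv_mul_cancel_left]

/-- Every member has two partners. -/
theorem pairs : Pairs P t := by
  obtain ⟨htC, hC8, hCsq, hCanti⟩ := T.C_facts h
  intro u huP hu hut
  obtain ⟨x, hx, y, hy, rfl, hx2, hy2⟩ := decomp h T hO hperm hr hr1 hrt hc hc1 hct hs huP hu hut
  have hx1 := T.sq_ne h hx2
  have hy1 := T.sq_ne h hy2
  obtain ⟨x', hx', hx'1, hx't, hx'x, hx'xt⟩ := T.exists_other h T.card x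
  obtain ⟨y', hy', hy'1, hy't, hy'y, hy'yt⟩ := T.exists_other h hC8 y
  have hax := T.anti x hx x' hx' hx1.1 hx1.2 hx'1 hx't hx'x hx'xt
  have hay := hCanti y hy y' hy' hy1.1 hy1.2 hy'1 hy't hy'y hy'yt
  have hx'2 := T.sq x' hx' hx'1 hx't
  have hy'2 := hCsq y' hy' hy'1 hy't
  have hcom : ∀ {a b : X}, a ∈ R → b ∈ C → x * a = a * x * t → y * b = b * y * t → Commute (a * b) (x * y) := by
    intro a b ha hb e1 e2
    show a * b * (x * y) = x * y * (a * b)
    rw [(T.comm b hb x hx).mul_mul_mul_comm, (T.comm y hy a ha).mul_mul_mul_comm, e1, e2,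
      (h.central (b * y)).symm.mul_mul_mul_comm, h.inv.2, mul_one]
  have hinv : ∀ {a b : X}, a ∈ R → b ∈ C → a * a = t → b * b = t → IsInv (a * b) := by
    intro a b ha hb ha2 hb2
    refine ⟨fun e => ?_, by rw [(T.comm b hb a ha).mul_mul_mul_comm, ha2, hb2, h.inv.2]⟩
    have haC : a ∈ C := by rw [eq_inv_of_mul_eq_one_left e]; exact inv_mem hb
    exact (T.inter a ha haC).elim (T.sq_ne h ha2).1 (T.sq_ne h ha2).2
  have e3 : x * (x * x') = x * x' * x * t := by
    rw [mul_assoc x x' x, mul_assoc x (x' * x) t, ← hax]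
  have h4 : x * x' ≠ 1 ∧ x * x' ≠ t := by
    refine ⟨fun e => hx'xt ?_, fun e => hx'x ?_⟩
    · rw [eq_inv_of_mul_eq_one_right e, h.inv_eq_mul hx2]
    · exact mul_left_cancel (e.trans hx2.symm)
  have hxx2 := T.sq _ (mul_mem hx hx') h4.1 h4.2
  refine ⟨x' * y', x * x' * y', hinv hx' hy' hx'2 hy'2, hinv (mul_mem hx hx') hy' hxx2 hy'2,
    hcom hx' hy' hax hay, hcom (mul_mem hx hx') hy' e3 hay, ?_⟩
  have hswap : x' * x = x * x' * t := by rw [hax, mul_assoc, h.inv.2, mul_one]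
  have hpq : x' * y' * (x * x' * y') = x * t := by
    rw [(T.comm y' hy' _ (mul_mem hx hx')).mul_mul_mul_comm, hy'2, ← mul_assoc x' x x', hswap,
      mul_assoc (x * x') t x', ← (h.central x').eq, ← mul_assoc (x * x') x' t, mul_assoc x x' x', hx'2,
      mul_assoc x t t, h.inv.2, mul_one]
  rw [hpq, (h.central x).symm.mul_mul_mul_comm, hx2, h.inv.2, mul_one]

end Spread

end Twin'

end CfsgLib.ProperCore
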